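import Mathlib
import Cfsg.Agent.Blocks.Star.Idem

/-!
# Simple quotients of a finite-dimensional algebra and the idempotents above them

For a finite-dimensional algebra over an algebraically closed field a surjection on a product of
matrix algebras with kernel in the radical. The rank of the image of an idempotent in each factor
determines the idempotent up to equivalence and orthogonal decomposition.
-/

set_option autoImplicit false
set_option linter.unusedSectionVars false
set_option linter.unusedSimpArgs false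
set_option linter.style.haveILetI false

namespace Cfsg.Lib.Blocks.IBr

open Cfsg.Lib.Blocks.Star

/-- The semisimple quotient. -/
structure SimpleSystem (k : Type*) (A : Type*) [Field k] [Ring A] [Algebra k A] where
  /-- The number of simple modules. -/
  num : ℕ
  /-- Their dimensions. -/
  dim : Fin num → ℕ
  dim_pos : ∀ i, 0 < dim i
  /-- The semisimple quotient map. -/
  hom : A →ₐ[k] Π i, Matrix (Fin (dim i)) (Fin (dim i)) k
  surj : Function.Surjective hom
  ker_nil : ∀ x, hom x = 0 → IsNilpotent x

section Matrices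

variable {k : Type*} [Field k] {m : ℕ}

/-- An idempotent matrix is nonzero in rank when nonzero; ranks add on orthogonal idempotents. -/
theorem rank_add_orth {e f : Matrix (Fin m) (Fin m) k} (he : e * e = e) (hf : f * f = f)
    (hef : e * f = 0) (hfe : f * e = 0) : (e + f).rank = e.rank + f.rank := by
  set E := e.mulVecLin with hE
  set F := f.mulVecLin with hF
  have h1 : LinearMap.range (e + f).mulVecLin = LinearMap.range E ⊔ LinearMap.range F := by
    refine le_antisymm ?_ (sup_le ?_ ?_)
    · rintro _ ⟨x, rfl⟩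
      rw [Matrix.mulVecLin_add, LinearMap.add_apply]
      exact Submodule.add_mem_sup ⟨x, rfl⟩ ⟨x, rfl⟩
    · rintro _ ⟨x, rfl⟩
      exact ⟨e.mulVec x, by
        simp [hE, Matrix.mulVecLin_apply, Matrix.add_mulVec, Matrix.mulVec_mulVec, he, hfe]⟩
    · rintro _ ⟨x, rfl⟩
      exact ⟨f.mulVec x, by
        simp [hF, Matrix.mulVecLin_apply, Matrix.add_mulVec, Matrix.mulVec_mulVec, hf, hef]⟩
  have h2 : LinearMap.range E ⊓ LinearMap.range F = ⊥ := by
    refine (Submodule.eq_bot_iff _).2 ?_
    rintro _ ⟨⟨x, rfl⟩, ⟨y, hy⟩⟩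
    have := congrArg e.mulVec hy
    simp [hE, hF, Matrix.mulVecLin_apply, Matrix.mulVec_mulVec, hef, he] at this
    simp [hE, Matrix.mulVecLin_apply, ← this]
  have h3 := Submodule.finrank_sup_add_finrank_inf_eq (LinearMap.range E) (LinearMap.range F)
  rw [h2, finrank_bot, add_zero, ← h1] at h3
  exact h3

theorem rank_eq_zero_iff' {e : Matrix (Fin m) (Fin m) k} : e.rank = 0 ↔ e = 0 := by
  constructor
  · intro h
    rw [Matrix.rank, Submodule.finrank_eq_zero, LinearMap.range_eq_bot] at h
    exact Matrix.toLin'.injective (by rw [map_zero]; exact h)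
  · rintro rfl
    exact Matrix.rank_zero

theorem rank_uv {u v e f : Matrix (Fin m) (Fin m) k} (he : e * e = e) (hf : f * f = f)
    (huv : u * v = e) (hvu : v * u = f) : e.rank = f.rank := by
  have h1 : e = u * f * v := by rw [← hvu, ← he, ← huv]; simp only [mul_assoc]
  have h2 : f = v * e * u := by rw [← huv, ← hf, ← hvu]; simp only [mul_assoc]
  refine le_antisymm ?_ ?_
  · conv_lhs => rw [h1]
    exact (Matrix.rank_mul_le_left _ _).trans (Matrix.rank_mul_le_right _ _)
  · conv_lhs => rw [h2]
    exact (Matrix.rank_mul_le_left _ _).trans (Matrix.rank_mul_le_right _ _)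

theorem trace_eq_rank {e : Matrix (Fin m) (Fin m) k} (he : e * e = e) :
    Matrix.trace e = (e.rank : k) := by
  have hp : LinearMap.IsProj (LinearMap.range (Matrix.toLin' e)) (Matrix.toLin' e) := by
    refine ⟨fun x => ⟨x, rfl⟩, ?_⟩
    rintro _ ⟨y, rfl⟩
    rw [← LinearMap.comp_apply, ← Matrix.toLin'_mul, he]
  rw [← Matrix.trace_toLin'_eq, hp.trace]
  rfl

/-- Below a nonzero idempotent matrix lies one equivalent to the first matrix unit. -/
theorem exists_rank_one_below (z : Fin m) {e : Matrix (Fin m) (Fin m) k} (he : e * e = e)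
    (hne : e ≠ 0) : ∃ u v : Matrix (Fin m) (Fin m) k, v * u = Matrix.single z z 1 ∧
      u * v * (u * v) = u * v ∧ e * (u * v) = u * v ∧ u * v * e = u * v := by
  obtain ⟨a, b, hab⟩ : ∃ a b, e a b ≠ 0 := by
    by_contra h
    push Not at h
    exact hne (Matrix.ext h)
  refine ⟨Matrix.of fun i j => if j = z then e i b else 0,
    Matrix.of fun i j => if i = z then (e a b)⁻¹ * e a j else 0, ?_, ?_, ?_, ?_⟩
  · ext i j
    have h := congrFun (congrFun he a) b
    rw [Matrix.mul_apply] at h
    rw [Matrix.mul_apply]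
    simp only [Matrix.of_apply, Matrix.single_apply]
    by_cases hi : i = z <;> by_cases hj : j = z <;> simp [hi, hj, Ne.symm, eq_comm]
    rw [Finset.sum_congr rfl fun c _ => mul_assoc (e a b)⁻¹ (e a c) (e c b), ← Finset.mul_sum, h,
      inv_mul_cancel₀ hab]
  all_goals (
    ext i j
    have h := congrFun (congrFun he a) b
    have h₁ := congrFun (congrFun he i) b
    have h₂ := congrFun (congrFun he a) j
    rw [Matrix.mul_apply] at h h₁ h₂
    simp only [Matrix.mul_apply, Matrix.of_apply, ite_mul, zero_mul, mul_ite, mul_zero,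
      Finset.sum_ite_eq', Finset.mem_univ, if_true])
  · rw [Finset.sum_congr rfl fun c _ => show e i b * ((e a b)⁻¹ * e a c) * (e c b * ((e a b)⁻¹ * e a j))
      = (e a c * e c b) * (e i b * (e a b)⁻¹ * (e a b)⁻¹ * e a j) by ring, ← Finset.sum_mul, h]
    field_simp
  · rw [Finset.sum_congr rfl fun c _ => (mul_assoc (e i c) (e c b) _).symm, ← Finset.sum_mul, h₁]
  · rw [Finset.sum_congr rfl fun c _ => show e i b * ((e a b)⁻¹ * e a c) * e c j
      = (e i b * (e a b)⁻¹) * (e a c * e c j) by ring, ← Finset.mul_sum, h₂, mul_assoc]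

end Matrices

variable {k : Type*} [Field k] {A : Type*} [Ring A] [Algebra k A] [FiniteDimensional k A]

/-- Simple systems exist. -/
theorem exists_simpleSystem [IsAlgClosed k] : Nonempty (SimpleSystem k A) := by
  haveI : IsArtinianRing A := IsArtinianRing.of_finite k A
  obtain ⟨m, d, hd, ⟨E⟩⟩ :=
    IsSemisimpleRing.exists_algEquiv_pi_matrix_of_isAlgClosed k (A ⧸ Ring.jacobson A)
  refine ⟨⟨m, d, fun i => Nat.pos_of_ne_zero (haveI := hd i; NeZero.ne _),
    E.toAlgHom.comp (Ideal.Quotient.mkₐ k (Ring.jacobson A)),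
    E.surjective.comp Ideal.Quotient.mk_surjective, fun x h => ?_⟩⟩
  obtain ⟨N, hN⟩ : IsNilpotent (Ring.jacobson A) := IsSemiprimaryRing.isNilpotent
  have hx : x ∈ Ring.jacobson A := by
    rw [← Ideal.Quotient.eq_zero_iff_mem]
    exact E.injective (by rw [map_zero]; exact h)
  refine ⟨N, ?_⟩
  have h1 := Ideal.pow_mem_pow hx N
  rw [hN] at h1
  exact h1

namespace SimpleSystem

variable (S : SimpleSystem k A)

/-- The rank of the image of an element in the `i`-th factor. -/
noncomputable def mu (i : Fin S.num) (f : A) : ℕ := (S.hom f i).rank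

theorem hom_idem {f : A} (hf : f * f = f) (i : Fin S.num) : S.hom f i * S.hom f i = S.hom f i := by
  rw [← Pi.mul_apply, ← map_mul, hf]

theorem mu_add {e f : A} (he : e * e = e) (hf : f * f = f) (hef : e * f = 0) (hfe : f * e = 0)
    (i : Fin S.num) : S.mu i (e + f) = S.mu i e + S.mu i f := by
  simp only [mu, map_add, Pi.add_apply]
  exact rank_add_orth (S.hom_idem he i) (S.hom_idem hf i)
    (by rw [← Pi.mul_apply, ← map_mul, hef, map_zero]; rfl)
    (by rw [← Pi.mul_apply, ← map_mul, hfe, map_zero]; rfl)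

theorem mu_equiv {e f : A} (he : e * e = e) (hf : f * f = f) (h : Equiv' e f) (i : Fin S.num) :
    S.mu i e = S.mu i f := by
  obtain ⟨u, v, h1, h2⟩ := h
  exact rank_uv (S.hom_idem he i) (S.hom_idem hf i) (u := S.hom u i) (v := S.hom v i)
    (by rw [← Pi.mul_apply, ← map_mul, h1]) (by rw [← Pi.mul_apply, ← map_mul, h2])

@[simp] theorem mu_zero (i : Fin S.num) : S.mu i 0 = 0 := by simp [mu]

@[simp] theorem mu_one (i : Fin S.num) : S.mu i 1 = S.dim i := by simp [mu]

theorem eq_zero_of_hom {f : A} (hf : f * f = f) (h : S.hom f = 0) : f = 0 := by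
  obtain ⟨n, hn⟩ := S.ker_nil f h
  rcases n with _ | n
  · rw [pow_zero] at hn
    rw [← mul_one f, hn, mul_zero]
  · have : ∀ j, f ^ (j + 1) = f := fun j => by
      induction j with
      | zero => rw [pow_one]
      | succ j ih => rw [pow_succ, ih, hf]
    rwa [this] at hn

/-- The zeroth index. -/
def zeroIdx (i : Fin S.num) : Fin (S.dim i) := ⟨0, S.dim_pos i⟩

/-- The image of the chosen idempotent. -/
noncomputable def unit (i : Fin S.num) : Π j, Matrix (Fin (S.dim j)) (Fin (S.dim j)) k :=
  Pi.single i (Matrix.single (S.zeroIdx i) (S.zeroIdx i) 1)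

theorem unit_idem (i : Fin S.num) : S.unit i * S.unit i = S.unit i := by
  rw [unit, ← Pi.single_mul, Matrix.single_mul_single_same, one_mul]

theorem exists_eps (i : Fin S.num) : ∃ e : A, e * e = e ∧ S.hom e = S.unit i := by
  obtain ⟨a, ha⟩ := S.surj (S.unit i)
  obtain ⟨g, hg, -, -, hgπ, -⟩ := exists_idem_below S.hom (f := (1 : A)) (a := a) (one_mul a)
    (mul_one a) (by rw [ha, S.unit_idem])
  exact ⟨g, hg, hgπ.trans ha⟩

/-- An idempotent over the `i`-th simple module. -/
noncomputable def eps (i : Fin S.num) : A := (S.exists_eps i).choose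

theorem eps_idem (i : Fin S.num) : S.eps i * S.eps i = S.eps i := (S.exists_eps i).choose_spec.1

theorem hom_eps (i : Fin S.num) : S.hom (S.eps i) = S.unit i := (S.exists_eps i).choose_spec.2

theorem mu_eps (i j : Fin S.num) : S.mu j (S.eps i) = if j = i then 1 else 0 := by
  simp only [mu, S.hom_eps, unit]
  by_cases h : j = i
  · subst h
    rw [Pi.single_eq_same, if_pos rfl]
    refine le_antisymm ?_ (Nat.one_le_iff_ne_zero.2 fun h => one_ne_zero (α := k) ?_)
    · rw [Matrix.single_eq_single_vecMulVec_single]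
      exact Matrix.rank_vecMulVec_le _ _
    · simpa using congrFun (congrFun (rank_eq_zero_iff'.1 h) (S.zeroIdx j)) (S.zeroIdx j)
  · rw [Pi.single_eq_of_ne h, if_neg h, Matrix.rank_zero]

/-- Idempotents with equivalent images are equivalent. -/
theorem equiv_of_hom {g e : A} (hg : g * g = g) (he : e * e = e) {u v : A}
    (huv : S.hom (u * v) = S.hom g) (hvu : S.hom (v * u) = S.hom e) : Equiv' g e := by
  set U := g * u * e with hU
  set V := e * v * g with hV
  have hπ : S.hom (U * V) = S.hom g := by
    have : S.hom g * S.hom g = S.hom g := by rw [← map_mul, hg]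
    calc S.hom (U * V) = S.hom g * S.hom u * (S.hom e * S.hom e) * S.hom v * S.hom g := by
          simp only [hU, hV, map_mul, mul_assoc]
      _ = S.hom g * S.hom u * S.hom (v * u) * S.hom v * S.hom g := by
          rw [← map_mul S.hom e e, he, hvu]
      _ = S.hom g * S.hom (u * v) * S.hom (u * v) * S.hom g := by simp only [map_mul, mul_assoc]
      _ = _ := by rw [huv, this, this, this]
  set x := g - U * V with hx
  have hgU : g * U = U := by rw [hU, ← mul_assoc, ← mul_assoc, hg]
  have hVg : V * g = V := by rw [hV, mul_assoc, hg]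
  have hgx : g * x = x := by rw [hx, mul_sub, hg, ← mul_assoc, hgU]
  have hxg : x * g = x := by rw [hx, sub_mul, hg, mul_assoc, hVg]
  obtain ⟨n, hn⟩ := S.ker_nil x (by rw [hx, map_sub, hπ, sub_self])
  set w := (∑ j ∈ Finset.range n, x ^ j) * g with hw
  have hcx : ∀ j : ℕ, x ^ j * g = g * x ^ j := fun j =>
    ((show Commute x g from hxg.trans hgx.symm).pow_left j).eq
  have hgw : g * w = w := by
    rw [hw, ← mul_assoc, Finset.mul_sum, Finset.sum_congr rfl fun j _ => (hcx j).symm,
      ← Finset.sum_mul, mul_assoc, hg]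
  have hUVw : U * V * w = g := by
    rw [show U * V = g - x by rw [hx, sub_sub_cancel], sub_mul, hgw, hw, ← mul_assoc, ← sub_mul, ← one_sub_mul,
      mul_neg_geom_sum, hn, sub_zero, one_mul]
  have hwg : w * g = w := by rw [hw, mul_assoc, hg]
  have hh : V * w * U * (V * w * U) = V * w * U := by
    rw [show V * w * U * (V * w * U) = V * w * (U * V * w) * U by simp only [mul_assoc], hUVw,
      mul_assoc V w g, hwg]
  have heh : e * (V * w * U) = V * w * U := by
    rw [hV]; simp only [← mul_assoc, he]
  have hhe : V * w * U * e = V * w * U := by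
    rw [hU]; simp only [mul_assoc, he]
  have hπh : S.hom (V * w * U) = S.hom e := by
    have hw1 : S.hom w = S.hom g := by
      have h0 := congrArg S.hom hUVw
      rw [map_mul, hπ, ← map_mul, hgw] at h0
      exact h0
    have hee : S.hom e * S.hom e = S.hom e := by rw [← map_mul, he]
    calc S.hom (V * w * U) = S.hom e * S.hom v * (S.hom g * S.hom g * S.hom g) * S.hom u * S.hom e := by
          simp only [hU, hV, map_mul, hw1, mul_assoc]
      _ = S.hom e * (S.hom (v * u) * S.hom (v * u)) * S.hom e := by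
          rw [← map_mul S.hom g g, hg, ← map_mul S.hom g g, hg, ← huv]
          simp only [map_mul, mul_assoc]
      _ = S.hom e := by rw [hvu, hee, hee, hee]
  have h0 : e - V * w * U = 0 := S.eq_zero_of_hom
    (by rw [sub_mul, mul_sub, mul_sub, he, heh, hhe, hh, sub_self, sub_zero])
    (by rw [map_sub, hπh, sub_self])
  exact ⟨U, V * w, by rw [← mul_assoc, hUVw], (sub_eq_zero.1 h0).symm⟩

/-- Additive invariants of idempotents are determined by the ranks. -/
theorem additive_eq_sum {N : Type*} [AddCommMonoid N] (F : A → N) (h0 : F 0 = 0)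
    (hadd : ∀ e f : A, e * e = e → f * f = f → e * f = 0 → f * e = 0 → F (e + f) = F e + F f)
    (heq : ∀ e f : A, e * e = e → f * f = f → Equiv' e f → F e = F f) {f : A} (hf : f * f = f) :
    F f = ∑ i, S.mu i f • F (S.eps i) := by
  classical
  obtain ⟨r, hr⟩ : ∃ r, ∑ i, S.mu i f = r := ⟨_, rfl⟩
  induction r using Nat.strong_induction_on generalizing f with
  | _ r ih =>
  by_cases hπ : S.hom f = 0
  · rw [S.eq_zero_of_hom hf hπ, h0]
    simp
  obtain ⟨i, hi⟩ := Function.ne_iff.1 hπ
  obtain ⟨u', v', hvu', hq, hFq, hqF⟩ :=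
    exists_rank_one_below (S.zeroIdx i) (S.hom_idem hf i) hi
  obtain ⟨u, hu⟩ := S.surj (Pi.single i u')
  obtain ⟨v, hv⟩ := S.surj (Pi.single i v')
  have hq' : S.hom (u * v) = Pi.single i (u' * v') := by rw [map_mul, hu, hv, ← Pi.single_mul]
  have hbelow : S.hom (f * (u * v) * f) = S.hom (u * v) := by
    rw [map_mul, map_mul, hq']
    funext j
    by_cases hj : j = i
    · subst hj; simp [hFq, hqF]
    · simp [Pi.single_eq_of_ne hj]
  obtain ⟨g, hg, hfg, hgf, hgπ, -⟩ := exists_idem_below S.hom (f := f) (a := f * (u * v) * f)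
    (by rw [← mul_assoc, ← mul_assoc, hf]) (by rw [mul_assoc, hf])
    (by rw [hbelow, hq', ← Pi.single_mul, hq])
  rw [hbelow] at hgπ
  have heqv : Equiv' g (S.eps i) := S.equiv_of_hom hg (S.eps_idem i) hgπ.symm
    (by rw [map_mul, hu, hv, ← Pi.single_mul, hvu', S.hom_eps, unit])
  have hrest : (f - g) * (f - g) = f - g := by rw [sub_mul, mul_sub, mul_sub, hf, hfg, hgf, hg]; abel
  have hg1 : g * (f - g) = 0 := by rw [mul_sub, hgf, hg, sub_self]
  have hg2 : (f - g) * g = 0 := by rw [sub_mul, hfg, hg, sub_self]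
  have hmu : ∀ j, S.mu j f = S.mu j (S.eps i) + S.mu j (f - g) := fun j => by
    rw [← S.mu_equiv hg (S.eps_idem i) heqv, ← S.mu_add hg hrest hg1 hg2, add_sub_cancel]
  have hlt : ∑ j, S.mu j (f - g) < r := by
    rw [← hr, Finset.sum_congr rfl fun j _ => hmu j, Finset.sum_add_distrib]
    refine Nat.lt_add_of_pos_left ?_
    simp [S.mu_eps]
  conv_lhs => rw [← add_sub_cancel g f, hadd g (f - g) hg hrest hg1 hg2,
    heq g (S.eps i) hg (S.eps_idem i) heqv, ih _ hlt hrest rfl]
  simp only [hmu, add_smul, Finset.sum_add_distrib, S.mu_eps, ite_smul, one_smul, zero_smul,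
    Finset.sum_ite_eq', Finset.mem_univ, if_true]

end SimpleSystem

end Cfsg.Lib.Blocks.IBr
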