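import Mathlib
import Cfsg.Agent.Blocks.IBr.Wedderburn
import Cfsg.Agent.Blocks.Star.Lift
import Cfsg.Agent.Blocks.TwoMember.BlockAlgebra
import Cfsg.Agent.Blocks.Orth2
import Cfsg.Agent.Chars.Count
import Cfsg.Agent.Modular.Count

/-!
# Modular characters through idempotents of the residue group algebra

The index type `Ix M G` is the set of simple modules of the residue group algebra. The
decomposition number `dec M χ i` is the value of `χ` at a lift of the idempotent `i`, the
function `phi p M i` is obtained from the ranks of the spectral idempotents of a regular element.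
They form a basis of the functions on the regular elements adapted to the blocks, and every
character restricts as the combination given by the decomposition numbers.
-/

set_option autoImplicit false
set_option linter.unusedSectionVars false
set_option linter.unusedSimpArgs false
set_option linter.style.haveILetI false

namespace Cfsg.Lib.Blocks.IBr

open Cfsg.Lib.Chars Cfsg.Lib.Blocks.Star Cfsg.Lib.Blocks.TwoMember Polynomial
open scoped ComplexConjugate Classical

universe u

variable {G : Type u} [Group G] [Fintype G] {M : Ideal AlgInt} {p : ℕ}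

instance finite_groupAlg (M : Ideal AlgInt) (G : Type u) [Group G] [Finite G] :
    Module.Finite (Res M) (MonoidAlgebra (Res M) G) :=
  haveI := Fintype.ofFinite G
  Module.Finite.equiv (fnEquiv (Res M) G).symm

/-- The chosen semisimple quotient. -/
noncomputable def sys (M : Ideal AlgInt) (G : Type u) [Group G] [Finite G] :
    SimpleSystem (Res M) (MonoidAlgebra (Res M) G) :=
  haveI := isAlgClosed_res M
  (exists_simpleSystem (k := Res M) (A := MonoidAlgebra (Res M) G)).some

/-- The simple modules. -/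
abbrev Ix (M : Ideal AlgInt) (G : Type u) [Group G] [Finite G] : Type := Fin (sys M G).num

/-- The decomposition number. -/
noncomputable def dec (M : Ideal AlgInt) (χ : IrrCharacter G) (i : Ix M G) : ℕ :=
  ⌊(th M χ 1 ((sys M G).eps i)).re⌋₊

lemma sE_one {R : Type*} [CommRing R] : (sE (1 : G) : MonoidAlgebra R G) = 1 :=
  MonoidAlgebra.one_def.symm

lemma commute_one_sE {R : Type*} [CommRing R] (a : MonoidAlgebra R G) : Commute (sE (1 : G)) a := by
  rw [sE_one]; exact Commute.one_left a

/-- An idempotent takes a natural value at a character. -/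
lemma exists_nat_chiEval (χ : IrrCharacter G) {F : MonoidAlgebra ℂ G} (hF : F * F = F) :
    ∃ n : ℕ, chiEval (χ : G → ℂ) F = (n : ℂ) := by
  obtain ⟨n, ρ, -, hρ⟩ := χ.2
  have hp : LinearMap.IsProj (LinearMap.range (ρ.asAlgebraHom F)) (ρ.asAlgebraHom F) := by
    refine ⟨fun x => ⟨x, rfl⟩, ?_⟩
    rintro _ ⟨y, rfl⟩
    rw [← Module.End.mul_apply, ← map_mul, hF]
  exact ⟨_, by rw [← hρ, ← trace_asAlgebraHom]; exact hp.trace⟩

lemma th_one_eq (χ : IrrCharacter G) {F : MonoidAlgebra ℂ G} (hi : Integral M F) (hF : F * F = F) :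
    th M χ 1 (red M F) = chiEval (χ : G → ℂ) F := by
  rw [th_eq χ hi hF (commute_one_sE F), sE_one, one_mul]

lemma exists_lift_one {f : MonoidAlgebra (Res M) G} (hf : f * f = f) :
    ∃ F : MonoidAlgebra ℂ G, Integral M F ∧ F * F = F ∧ red M F = f := by
  obtain ⟨F, h1, h2, h3, -⟩ := exists_lift_r hf (commute_one_sE f)
  exact ⟨F, h1, h2, h3⟩

lemma cast_dec (χ : IrrCharacter G) (i : Ix M G) :
    (dec M χ i : ℂ) = th M χ 1 ((sys M G).eps i) := by
  obtain ⟨F, h1, h2, h3⟩ := exists_lift_one ((sys M G).eps_idem i)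
  obtain ⟨n, hn⟩ := exists_nat_chiEval χ h2
  rw [dec, ← h3, th_one_eq χ h1 h2, hn, Complex.natCast_re, Nat.floor_natCast]

/-- The value of a character at an idempotent through the decomposition numbers. -/
theorem th_eq_sum (χ : IrrCharacter G) {f : MonoidAlgebra (Res M) G} (hf : f * f = f) :
    th M χ 1 f = ∑ i, ((sys M G).mu i f : ℂ) * dec M χ i := by
  rw [(sys M G).additive_eq_sum (fun a => th M χ 1 a) (th_zero χ 1)
    (fun e e' he he' h h' => th_add χ he he' h h' (commute_one_sE _) (commute_one_sE _))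
    (fun e e' he he' h => by
      obtain ⟨u, v, h1, h2⟩ := h
      exact th_equiv χ he he' (commute_one_sE _) (commute_one_sE _) (commute_one_sE _)
        (commute_one_sE _) h1 h2) hf]
  exact Finset.sum_congr rfl fun i _ => by rw [nsmul_eq_mul, cast_dec]

/-! ### Spectral idempotents -/

/-- The spectral idempotent of `g` at the root `l`. -/
noncomputable def eigC (g : G) (l : ℂ) : MonoidAlgebra ℂ G :=
  (orderOf g : ℂ)⁻¹ • ∑ j ∈ Finset.range (orderOf g), MonoidAlgebra.single (g ^ j) (l⁻¹ ^ j)

lemma single_pow_mul_eigC (g : G) {l : ℂ} (hl : l ^ orderOf g = 1) (j : ℕ) :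
    MonoidAlgebra.single (g ^ j) (l⁻¹ ^ j) * eigC g l = eigC g l := by
  set N := orderOf g with hN
  have hz : (MonoidAlgebra.single g l⁻¹ : MonoidAlgebra ℂ G) ^ N = 1 := by
    rw [MonoidAlgebra.single_pow, hN, pow_orderOf_eq_one, inv_pow, hl, inv_one, MonoidAlgebra.one_def]
  have h1 : MonoidAlgebra.single g l⁻¹ * eigC g l = eigC g l := by
    rw [eigC, mul_smul_comm]
    congr 1
    have := mul_geom_sum (MonoidAlgebra.single g l⁻¹ : MonoidAlgebra ℂ G) N
    rw [hz, sub_self, sub_mul, one_mul, sub_eq_zero] at this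
    simpa only [MonoidAlgebra.single_pow] using this
  induction j with
  | zero => rw [pow_zero, pow_zero, ← MonoidAlgebra.one_def, one_mul]
  | succ j ih =>
    rw [pow_succ, pow_succ, ← MonoidAlgebra.single_mul_single, mul_assoc, h1, ih]

lemma eigC_idem (g : G) {l : ℂ} (hl : l ^ orderOf g = 1) : eigC g l * eigC g l = eigC g l := by
  conv_lhs => arg 1; rw [eigC]
  rw [smul_mul_assoc, Finset.sum_mul,
    Finset.sum_congr rfl fun j _ => single_pow_mul_eigC g hl j, Finset.sum_const, Finset.card_range,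
    ← Nat.cast_smul_eq_nsmul ℂ, smul_smul, inv_mul_cancel₀ (Nat.cast_ne_zero.2 (orderOf_pos g).ne'),
    one_smul]

lemma eigC_integral (hM : IsPModular p M) {g : G} (hg : ¬ p ∣ orderOf g) {l : ℂ}
    (hl : l ^ orderOf g = 1) : Integral M (eigC g l) := by
  intro x
  rw [eigC, fn_smul, fn_sum]
  refine mul_mem (IsUnitAt.inv (isUnitAt_natCast hM hg)).mem_place (sum_mem fun j _ => ?_)
  rw [fn_single]
  split_ifs
  · exact pow_mem (mem_place_of_pow_eq_one (orderOf_pos g).ne' (by rw [inv_pow, hl, inv_one])) _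
  · exact zero_mem _

lemma red_eigC (hM : IsPModular p M) {g : G} (hg : ¬ p ∣ orderOf g) {l : ℂ}
    (hl : l ^ orderOf g = 1) : red M (eigC g l) = ∑ j ∈ Finset.range (orderOf g),
      MonoidAlgebra.single (g ^ j) (res M ((orderOf g : ℂ)⁻¹ * l⁻¹ ^ j)) := by
  refine fn_ext fun x => ?_
  have hc : (orderOf g : ℂ)⁻¹ ∈ place M := (IsUnitAt.inv (isUnitAt_natCast hM hg)).mem_place
  have hl' : ∀ j : ℕ, l⁻¹ ^ j ∈ place M := fun j =>
    pow_mem (mem_place_of_pow_eq_one (orderOf_pos g).ne' (by rw [inv_pow, hl, inv_one])) _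
  rw [fn_red, eigC, fn_smul, fn_sum, fn_sum, Finset.mul_sum, res_sum _ _ fun j _ => ?_]
  · refine Finset.sum_congr rfl fun j _ => ?_
    rw [fn_single, fn_single, mul_ite, mul_zero]
    split_ifs
    · rfl
    · exact res_zero
  · rw [fn_single]
    split_ifs
    · exact mul_mem hc (hl' j)
    · rw [mul_zero]; exact zero_mem _

lemma red_eigC_idem (hM : IsPModular p M) {g : G} (hg : ¬ p ∣ orderOf g) {l : ℂ}
    (hl : l ^ orderOf g = 1) : red M (eigC g l) * red M (eigC g l) = red M (eigC g l) := by
  rw [← red_mul (eigC_integral hM hg hl) (eigC_integral hM hg hl), eigC_idem g hl]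

lemma mem_roots {g : G} {l : ℂ} (h : l ∈ nthRootsFinset (orderOf g) (1 : ℂ)) :
    l ^ orderOf g = 1 := (mem_nthRootsFinset (orderOf_pos g) _).1 h

/-- The spectral resolution. -/
lemma sum_smul_eigC (g : G) :
    ∑ l ∈ nthRootsFinset (orderOf g) (1 : ℂ), l • eigC g l = MonoidAlgebra.single g 1 := by
  set N := orderOf g with hN
  have hN0 : N ≠ 0 := (orderOf_pos g).ne'
  have hζ := Complex.isPrimitiveRoot_exp N hN0
  set ζ := Complex.exp (2 * Real.pi * Complex.I / N)
  haveI := NeZero.mk hN0
  have hsum : ∀ j < N, ∑ l ∈ nthRootsFinset N (1 : ℂ), l * l⁻¹ ^ j =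
      if j = 1 % N then (N : ℂ) else 0 := by
    intro j hj
    have himg : nthRootsFinset N (1 : ℂ) = (Finset.range N).image (fun i => ζ ^ i) := by
      ext ω
      rw [mem_nthRootsFinset (Nat.pos_of_ne_zero hN0), Finset.mem_image]
      refine ⟨fun h => ?_, ?_⟩
      · obtain ⟨i, hi, rfl⟩ := hζ.eq_pow_of_pow_eq_one h
        exact ⟨i, Finset.mem_range.2 hi, rfl⟩
      · rintro ⟨i, -, rfl⟩
        rw [← pow_mul, mul_comm, pow_mul, hζ.pow_eq_one, one_pow]
    rw [himg, Finset.sum_image fun a ha b hb h => hζ.pow_inj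
      (Finset.mem_range.1 ha) (Finset.mem_range.1 hb) h]
    have hr : ∀ i : ℕ, ζ ^ i * (ζ ^ i)⁻¹ ^ j = (ζ * (ζ ^ j)⁻¹) ^ i := fun i => by
      rw [mul_pow, inv_pow, inv_pow, ← pow_mul, ← pow_mul, mul_comm i]
    simp only [hr]
    have hz : ζ ^ j ≠ 0 := pow_ne_zero _ (hζ.ne_zero hN0)
    split_ifs with h
    · have : ζ ^ j = ζ := by
        rw [h]; conv_rhs => rw [← pow_one ζ, pow_eq_pow_mod 1 hζ.pow_eq_one]
      simp [this, mul_inv_cancel₀ (hζ.ne_zero hN0)]
    · have hne : ζ * (ζ ^ j)⁻¹ ≠ 1 := fun h1 => h (hζ.pow_inj hj (Nat.mod_lt _ (Nat.pos_of_ne_zero hN0))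
        (by rw [← (mul_inv_eq_one₀ hz).1 h1, ← pow_eq_pow_mod 1 hζ.pow_eq_one, pow_one]))
      rw [geom_sum_eq hne, mul_pow, inv_pow, ← pow_mul, mul_comm j, pow_mul, hζ.pow_eq_one, one_pow,
        inv_one, mul_one, sub_self, zero_div]
  refine fn_ext fun x => ?_
  simp only [fn_sum, fn_smul, eigC, ← hN, Finset.mul_sum, fn_single]
  rw [Finset.sum_comm, Finset.sum_eq_single (1 % N)]
  · have hg1 : g ^ (1 % N) = g := by rw [hN, pow_mod_orderOf, pow_one]
    rw [hg1]
    split_ifs with hx
    · rw [Finset.sum_congr rfl fun l _ => show l * ((N : ℂ)⁻¹ * l⁻¹ ^ (1 % N)) =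
        (N : ℂ)⁻¹ * (l * l⁻¹ ^ (1 % N)) by ring, ← Finset.mul_sum,
        hsum _ (Nat.mod_lt _ (Nat.pos_of_ne_zero hN0)), if_pos rfl,
        inv_mul_cancel₀ (Nat.cast_ne_zero.2 hN0)]
    · exact Finset.sum_eq_zero fun l _ => by rw [mul_zero, mul_zero]
  · intro j hj hne
    split_ifs with hx
    · rw [Finset.sum_congr rfl fun l _ => show l * ((N : ℂ)⁻¹ * l⁻¹ ^ j) =
        (N : ℂ)⁻¹ * (l * l⁻¹ ^ j) by ring, ← Finset.mul_sum,
        hsum _ (Finset.mem_range.1 hj), if_neg hne, mul_zero]
    · exact Finset.sum_eq_zero fun l _ => by rw [mul_zero, mul_zero]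
  · exact fun h => absurd (Finset.mem_range.2 (Nat.mod_lt _ (Nat.pos_of_ne_zero hN0))) h

/-- The modular character of a simple module. -/
noncomputable def phi (p : ℕ) (M : Ideal AlgInt) (i : Ix M G) : G → ℂ := fun g =>
  if p ∣ orderOf g then 0
  else ∑ l ∈ nthRootsFinset (orderOf g) (1 : ℂ), l * ((sys M G).mu i (red M (eigC g l)) : ℂ)

lemma phi_regular (i : Ix M G) {g : G} (hg : ¬ p ∣ orderOf g) : phi p M i g =
    ∑ l ∈ nthRootsFinset (orderOf g) (1 : ℂ), l * ((sys M G).mu i (red M (eigC g l)) : ℂ) :=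
  if_neg hg

lemma phi_singular (i : Ix M G) {g : G} (hg : p ∣ orderOf g) : phi p M i g = 0 := if_pos hg

/-- **The decomposition of a character on the regular elements.** -/
theorem apply_eq_sum_dec (hM : IsPModular p M) (χ : IrrCharacter G) {g : G} (hg : ¬ p ∣ orderOf g) :
    (χ : G → ℂ) g = ∑ i, (dec M χ i : ℂ) * phi p M i g := by
  calc (χ : G → ℂ) g = chiEval (χ : G → ℂ) (MonoidAlgebra.single g 1) := by
        rw [chiEval_single, one_mul]
    _ = ∑ l ∈ nthRootsFinset (orderOf g) (1 : ℂ), l * th M χ 1 (red M (eigC g l)) := by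
        rw [← sum_smul_eigC, chiEval_sum]
        refine Finset.sum_congr rfl fun l hl => ?_
        rw [chiEval_smul, th_one_eq χ (eigC_integral hM hg (mem_roots hl)) (eigC_idem g (mem_roots hl))]
    _ = _ := by
        simp only [phi_regular _ hg, Finset.mul_sum]
        rw [Finset.sum_comm]
        refine Finset.sum_congr rfl fun l hl => ?_
        rw [th_eq_sum χ (red_eigC_idem hM hg (mem_roots hl)), Finset.mul_sum]
        exact Finset.sum_congr rfl fun i _ => by ring

lemma phi_one (hM : IsPModular p M) (i : Ix M G) : phi p M i 1 = ((sys M G).dim i : ℂ) := by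
  have h1 : ¬ p ∣ orderOf (1 : G) := by rw [orderOf_one]; exact hM.1.not_dvd_one
  have he : eigC (1 : G) 1 = 1 := by simp [eigC, MonoidAlgebra.one_def]
  rw [phi_regular _ h1, orderOf_one, show nthRootsFinset 1 (1 : ℂ) = {1} by
    ext; simp [mem_nthRootsFinset], Finset.sum_singleton, one_mul, he, red_one, SimpleSystem.mu_one]

/-- The degree through the decomposition numbers. -/
theorem deg_eq_sum_dec (hM : IsPModular p M) (χ : IrrCharacter G) :
    deg (χ : G → ℂ) = ∑ i, dec M χ i * (sys M G).dim i := by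
  have h1 : ¬ p ∣ orderOf (1 : G) := by rw [orderOf_one]; exact hM.1.not_dvd_one
  have := apply_eq_sum_dec hM χ h1
  rw [irr_apply_one_eq_deg] at this
  apply Nat.cast_injective (R := ℂ)
  rw [this, Nat.cast_sum]
  exact Finset.sum_congr rfl fun i _ => by rw [phi_one hM, Nat.cast_mul]

lemma cj_eq_mul (h : G) (a : MonoidAlgebra (Res M) G) :
    cj h a = sE h * a * sE h⁻¹ := fn_ext fun x => by
  rw [fn_cj, fn_mul_single, fn_single_mul, one_mul, mul_one, inv_inv, mul_assoc]

lemma isClassFunction_phi (hM : IsPModular p M) (i : Ix M G) :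
    IsClassFunction G (phi p M i) := by
  intro g h
  have ho : orderOf (h * g * h⁻¹) = orderOf g :=
    orderOf_injective (MulAut.conj h).toMonoidHom (MulAut.conj h).injective g
  by_cases hg : p ∣ orderOf g
  · rw [phi_singular _ hg, phi_singular _ (ho.symm ▸ hg)]
  rw [phi_regular _ hg, phi_regular _ (ho.symm ▸ hg), ho]
  refine Finset.sum_congr rfl fun l hl => ?_
  congr 2
  have hl' := mem_roots hl
  have he : red M (eigC (h * g * h⁻¹) l) = cj h (red M (eigC g l)) := by
    refine fn_ext fun x => ?_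
    rw [fn_cj, fn_red, fn_red, eigC, eigC, ho]
    simp only [fn_smul, fn_sum, fn_single]
    congr 2
    refine Finset.sum_congr rfl fun j _ => ?_
    rw [conj_pow]
    by_cases hx : g ^ j = h⁻¹ * x * h
    · rw [if_pos hx, if_pos (by rw [hx]; group)]
    · rw [if_neg hx, if_neg fun e => hx (by rw [← e]; group)]
  have hf := red_eigC_idem hM hg hl'
  rw [he]
  refine (sys M G).mu_equiv (by rw [← cj_mul, hf]) hf ⟨sE h * red M (eigC g l), red M (eigC g l) * sE h⁻¹, ?_, ?_⟩ i
  · rw [cj_eq_mul, ← mul_assoc, mul_assoc (sE h) _ (red M _), hf]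
  · rw [mul_assoc, ← mul_assoc (sE h⁻¹), show (sE h⁻¹ * sE h : MonoidAlgebra (Res M) G) = 1 by
      rw [sE, sE, MonoidAlgebra.single_mul_single, inv_mul_cancel, one_mul, MonoidAlgebra.one_def],
      one_mul, hf]

/-! ### Traces, independence -/

lemma trace_hom_regPart (hM : IsPModular p M) {n : ℕ}
    (hn : ∀ g : G, (g ^ p ^ n) ^ p ^ n = g ^ p ^ n) (i : Ix M G) (g : G) :
    Matrix.trace ((sys M G).hom (MonoidAlgebra.single g 1) i) =
      Matrix.trace ((sys M G).hom (MonoidAlgebra.single (g ^ p ^ n) 1) i) := by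
  haveI := charP_res hM
  haveI := Fact.mk hM.1
  haveI : CharP (MonoidAlgebra (Res M) G) p :=
    charP_of_injective_algebraMap (algebraMap (Res M) (MonoidAlgebra (Res M) G)).injective p
  rw [← sub_eq_zero, ← Matrix.trace_sub, ← Pi.sub_apply, ← map_sub]
  refine (Matrix.isNilpotent_trace_of_isNilpotent (IsNilpotent.map (f := Pi.evalRingHom _ i)
    (IsNilpotent.map (f := (sys M G).hom) ⟨p ^ n, ?_⟩))).eq_zero
  rw [sub_pow_char_pow_of_commute (p := p), MonoidAlgebra.single_pow, MonoidAlgebra.single_pow,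
    one_pow, hn, sub_self]
  show _ * _ = _ * _
  rw [MonoidAlgebra.single_mul_single, MonoidAlgebra.single_mul_single, (Commute.self_pow g _).eq]

lemma phi_mem_place (i : Ix M G) (g : G) : phi p M i g ∈ place M := by
  by_cases hg : p ∣ orderOf g
  · rw [phi_singular _ hg]; exact zero_mem _
  rw [phi_regular _ hg]
  exact sum_mem fun l hl => mul_mem
    (mem_place_of_pow_eq_one (orderOf_pos g).ne' (mem_roots hl)) (natCast_mem_place _)

lemma res_phi (hM : IsPModular p M) (i : Ix M G) {g : G} (hg : ¬ p ∣ orderOf g) :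
    res M (phi p M i g) = Matrix.trace ((sys M G).hom (MonoidAlgebra.single g 1) i) := by
  have hlp : ∀ l ∈ nthRootsFinset (orderOf g) (1 : ℂ), l ∈ place M := fun l hl =>
    mem_place_of_pow_eq_one (orderOf_pos g).ne' (mem_roots hl)
  have hsingle : (MonoidAlgebra.single g 1 : MonoidAlgebra (Res M) G) =
      ∑ l ∈ nthRootsFinset (orderOf g) (1 : ℂ), res M l • red M (eigC g l) := by
    refine fn_ext fun x => ?_
    rw [fn_sum, fn_single]
    have h0 := congrArg (fun a => res M (fn a x)) (sum_smul_eigC g)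
    simp only [fn_sum, fn_smul, fn_single] at h0
    rw [res_sum _ _ fun l hl => mul_mem (hlp l hl) (eigC_integral hM hg (mem_roots hl) x)] at h0
    simp only [fn_smul, fn_red]
    rw [← Finset.sum_congr rfl fun l hl => res_mul (hlp l hl) (eigC_integral hM hg (mem_roots hl) x),
      h0]
    split_ifs
    · exact res_one.symm
    · exact res_zero.symm
  rw [hsingle, map_sum, Finset.sum_apply, Matrix.trace_sum, phi_regular _ hg,
    res_sum _ _ fun l hl => mul_mem (hlp l hl) (natCast_mem_place _)]
  refine Finset.sum_congr rfl fun l hl => ?_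
  rw [res_mul (hlp l hl) (natCast_mem_place _), res_natCast, map_smul, Pi.smul_apply,
    Matrix.trace_smul, smul_eq_mul,
    trace_eq_rank ((sys M G).hom_idem (red_eigC_idem hM hg (mem_roots hl)) i)]
  rfl

/-- **Independence on the regular elements.** -/
theorem eq_zero_of_sum_phi (hM : IsPModular p M) (c : Ix M G → ℂ)
    (hc : ∀ g : G, ¬ p ∣ orderOf g → ∑ i, c i * phi p M i g = 0) : c = 0 := by
  by_contra h
  obtain ⟨j, hj⟩ := Function.ne_iff.1 h
  haveI : Nonempty (Ix M G) := ⟨j⟩
  obtain ⟨i₀, -, hmax⟩ := Finset.exists_max_image Finset.univ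
    (fun i => (place M).valuation (c i)) Finset.univ_nonempty
  have hi₀ : c i₀ ≠ 0 := by
    intro h'
    apply hj
    have := hmax j (Finset.mem_univ _)
    rw [h', map_zero] at this
    exact (Valuation.zero_iff _).1 (le_antisymm this zero_le)
  set d : Ix M G → ℂ := fun i => (c i₀)⁻¹ * c i with hd
  have hdint : ∀ i, d i ∈ place M := fun i => by
    rw [← ValuationSubring.valuation_le_one_iff]
    simp only [hd, map_mul, map_inv₀]
    rw [inv_mul_le_one₀ (zero_lt_iff.2 ((Valuation.ne_zero_iff _).2 hi₀))]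
    exact hmax i (Finset.mem_univ _)
  obtain ⟨n, -, hn⟩ := Cfsg.Lib.Modular.exists_regPart G hM.1
  have hn1 : ∀ g : G, (g ^ p ^ n) ^ p ^ n = g ^ p ^ n := fun g => by simpa using (hn g).2.1 1
  have hall : ∀ g : G, ∑ i, res M (d i) * Matrix.trace ((sys M G).hom (MonoidAlgebra.single g 1) i) = 0 := by
    intro g
    have hreg : ¬ p ∣ orderOf (g ^ p ^ n) := (hM.1.coprime_iff_not_dvd).1 (hn g).1.symm
    have h0 : ∑ i, d i * phi p M i (g ^ p ^ n) = 0 := by
      simp only [hd, mul_assoc, ← Finset.mul_sum, hc _ hreg, mul_zero]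
    have h1 := congrArg (res M) h0
    rw [res_sum _ _ fun i _ => mul_mem (hdint i) (phi_mem_place i _), res_zero] at h1
    rw [← h1]
    refine Finset.sum_congr rfl fun i _ => ?_
    rw [res_mul (hdint i) (phi_mem_place i _), res_phi hM i hreg, trace_hom_regPart hM hn1]
  obtain ⟨x, hx⟩ := (sys M G).surj ((sys M G).unit i₀)
  have hsum : ∑ i, res M (d i) * Matrix.trace ((sys M G).hom x i) = 0 := by
    rw [eq_sum_single x]
    simp only [map_sum, Finset.sum_apply, Matrix.trace_sum, Finset.mul_sum]
    rw [Finset.sum_comm]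
    refine Finset.sum_eq_zero fun g _ => ?_
    rw [show MonoidAlgebra.single g (fn x g) = fn x g • MonoidAlgebra.single g (1 : Res M) by
      rw [MonoidAlgebra.smul_single, smul_eq_mul, mul_one], map_smul]
    simp only [Pi.smul_apply, Matrix.trace_smul, smul_eq_mul, mul_left_comm _ (fn x g),
      ← Finset.mul_sum, hall, mul_zero]
  rw [hx, Finset.sum_eq_single i₀ (fun i _ hi => by
    simp [SimpleSystem.unit, Pi.single_eq_of_ne hi]) (by simp)] at hsum
  simp [SimpleSystem.unit, hd, hi₀, res_one] at hsum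

theorem linearIndependent_phi (hM : IsPModular p M) :
    LinearIndependent ℂ (phi p M : Ix M G → G → ℂ) := by
  rw [Fintype.linearIndependent_iff]
  intro c hc
  refine congrFun (eq_zero_of_sum_phi hM c fun g _ => ?_)
  have := congrFun hc g
  simpa [Finset.sum_apply] using this

lemma pRegularPart_irr (hM : IsPModular p M) (χ : IrrCharacter G) :
    pRegularPart p (χ : G → ℂ) = ∑ i, (dec M χ i : ℂ) • phi p M i := by
  funext g
  rw [pRegularPart_apply, Finset.sum_apply]
  simp only [Pi.smul_apply, smul_eq_mul]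
  split_ifs with hg
  · simp [phi_singular _ hg]
  · exact apply_eq_sum_dec hM χ hg

/-- The modular character is a combination of restricted characters. -/
lemma exists_phi_eq_sum (hM : IsPModular p M) (i : Ix M G) :
    ∃ a : IrrCharacter G → ℂ, phi p M i = ∑ χ, a χ • pRegularPart p (χ : G → ℂ) := by
  refine ⟨fun χ => classInner (phi p M i) (χ : G → ℂ), funext fun g => ?_⟩
  simp only [Finset.sum_apply, Pi.smul_apply, smul_eq_mul, pRegularPart_apply, mul_ite, mul_zero]
  split_ifs with hg
  · rw [phi_singular _ hg, Finset.sum_const_zero]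
  · exact classFunction_expand_apply (isClassFunction_phi hM i) g

/-- Coefficients of a combination of restricted characters. -/
lemma coeff_of_eq (hM : IsPModular p M) {i : Ix M G} {a : IrrCharacter G → ℂ}
    (h : ∀ g : G, ¬ p ∣ orderOf g → phi p M i g = ∑ χ, a χ * (χ : G → ℂ) g) (j : Ix M G) :
    ∑ χ, a χ * (dec M χ j : ℂ) = if j = i then 1 else 0 := by
  have := eq_zero_of_sum_phi hM (fun j => ∑ χ, a χ * (dec M χ j : ℂ) - if j = i then 1 else 0)
    fun g hg => by
      simp only [sub_mul, Finset.sum_sub_distrib, ite_mul, one_mul, zero_mul, Finset.sum_ite_eq',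
        Finset.mem_univ, if_true]
      rw [sub_eq_zero, h g hg]
      simp only [Finset.sum_mul]
      rw [Finset.sum_comm]
      refine Finset.sum_congr rfl fun χ _ => ?_
      rw [apply_eq_sum_dec hM χ hg, Finset.mul_sum]
      exact Finset.sum_congr rfl fun j _ => by ring
  exact sub_eq_zero.1 (congrFun this j)

/-- Every column of the decomposition matrix is nonzero. -/
lemma exists_dec_ne_zero (hM : IsPModular p M) (i : Ix M G) :
    ∃ χ : IrrCharacter G, dec M χ i ≠ 0 := by
  by_contra h
  push Not at h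
  obtain ⟨a, ha⟩ := exists_phi_eq_sum hM i
  have := coeff_of_eq hM (a := a) (fun g hg => by
    rw [ha, Finset.sum_apply]
    simp [pRegularPart_apply, hg]) i
  simp [h] at this

/-- **The projective characters vanish on the singular elements.** -/
theorem sum_dec_mul_eq_zero (hM : IsPModular p M) (i : Ix M G) {x : G} (hx : p ∣ orderOf x) :
    ∑ χ : IrrCharacter G, (dec M χ i : ℂ) * (χ : G → ℂ) x = 0 := by
  refine congrFun (eq_zero_of_sum_phi hM (fun i => ∑ χ : IrrCharacter G, (dec M χ i : ℂ) *
    (χ : G → ℂ) x) fun s hs => ?_) i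
  have h0 := second_orthogonality x s⁻¹
  rw [if_neg fun h => hs (by
    obtain ⟨c, hc⟩ := isConj_iff.1 h
    rw [← orderOf_inv s, ← hc, show orderOf (c * x * c⁻¹) = orderOf x from
      orderOf_injective (MulAut.conj c).toMonoidHom (MulAut.conj c).injective x]
    exact hx)] at h0
  rw [← h0]
  simp only [Finset.sum_mul]
  rw [Finset.sum_comm]
  refine Finset.sum_congr rfl fun χ _ => ?_
  rw [IsCharacter.conj_inv (isCharacter_of_irr χ.2), RingHomCompTriple.comp_apply, RingHom.id_apply,
    apply_eq_sum_dec hM χ hs, Finset.mul_sum]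
  exact Finset.sum_congr rfl fun j _ => by ring

/-! ### Blocks -/

/-- The simple module `i` belongs to the set `B`. -/
def InBlk (M : Ideal AlgInt) (B : Set (IrrCharacter G)) (i : Ix M G) : Prop :=
  red M (blockElem B) * (sys M G).eps i = (sys M G).eps i

variable {B : Set (IrrCharacter G)}

lemma chiEval_blockElem_mul (χ : IrrCharacter G) (F : MonoidAlgebra ℂ G) :
    chiEval (χ : G → ℂ) (blockElem B * F) = if χ ∈ B then chiEval (χ : G → ℂ) F else 0 := by
  rw [chiEval_central_mul χ (isCentralFn_blockElem B), omega_blockElem]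
  split_ifs <;> simp

lemma blk_mul_idem (hM : IsPModular p M) (hB : IsPBlock M B) (f : MonoidAlgebra (Res M) G) :
    red M (blockElem B) * f = f * red M (blockElem B) :=
  (isCentralFn_blockElem B).red.comm f

lemma dec_eq_zero_of_inBlk (hM : IsPModular p M) (hB : IsPBlock M B) {i : Ix M G}
    (hi : InBlk M B i) {χ : IrrCharacter G} (hχ : χ ∉ B) : dec M χ i = 0 := by
  obtain ⟨F, h1, h2, h3⟩ := exists_lift_one ((sys M G).eps_idem i)
  have hE := integral_blockElem hM hB
  have hFF : blockElem B * F * (blockElem B * F) = blockElem B * F := by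
    rw [mul_assoc, ← mul_assoc F, ← (isCentralFn_blockElem B).comm F, mul_assoc, h2, ← mul_assoc,
      blockElem_mul_self]
  have hred : red M (blockElem B * F) = (sys M G).eps i := by rw [red_mul hE h1, h3]; exact hi
  apply Nat.cast_injective (R := ℂ)
  rw [cast_dec, ← hred, th_one_eq χ (hE.mul h1) hFF, chiEval_blockElem_mul, if_neg hχ, Nat.cast_zero]

lemma inBlk_of_dec (hM : IsPModular p M) (hB : IsPBlock M B) {i : Ix M G}
    {χ : IrrCharacter G} (hχ : χ ∈ B) (h : dec M χ i ≠ 0) : InBlk M B i := by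
  obtain ⟨F, h1, h2, h3⟩ := exists_lift_one ((sys M G).eps_idem i)
  have hE := integral_blockElem hM hB
  set e := (sys M G).eps i with he
  set f := red M (blockElem B) * e with hf
  have hee := (sys M G).eps_idem i
  have hbb : red M (blockElem B) * red M (blockElem B) = red M (blockElem B) := by
    rw [← red_mul hE hE, blockElem_mul_self]
  have hef : e * f = f := by rw [hf, ← mul_assoc, ← blk_mul_idem hM hB, mul_assoc, hee]
  have hfe : f * e = f := by rw [hf, mul_assoc, hee]
  have hff : f * f = f := by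
    conv_lhs => arg 1; rw [hf]
    rw [mul_assoc, hef, hf, ← mul_assoc, hbb]
  have hd : (e - f) * (e - f) = e - f := by
    rw [sub_mul, mul_sub, mul_sub, hee, hef, hfe, hff]; abel
  have hmu : ∀ j, (sys M G).mu j f + (sys M G).mu j (e - f) = if j = i then 1 else 0 := fun j => by
    rw [← SimpleSystem.mu_add _ hff hd (by rw [mul_sub, hfe, hff, sub_self])
      (by rw [sub_mul, hef, hff, sub_self]), add_sub_cancel]
    exact (sys M G).mu_eps i j
  have hzero : ∀ a : MonoidAlgebra (Res M) G, a * a = a → (∀ j, (sys M G).mu j a = 0) → a = 0 :=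
    fun a ha h' => (sys M G).eq_zero_of_hom ha (funext fun j => rank_eq_zero_iff'.1 (h' j))
  rcases Nat.eq_zero_or_pos ((sys M G).mu i f) with h0 | h0
  · exfalso
    have hf0 : f = 0 := hzero f hff fun j => by
      by_cases hj : j = i
      · subst hj; exact h0
      · have := hmu j; rw [if_neg hj] at this; omega
    apply h
    have hFF : blockElem B * F * (blockElem B * F) = blockElem B * F := by
      rw [mul_assoc, ← mul_assoc F, ← (isCentralFn_blockElem B).comm F, mul_assoc, h2, ← mul_assoc,
        blockElem_mul_self]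
    have hred : red M (blockElem B * F) = 0 := by rw [red_mul hE h1, h3]; exact hf0
    have h4 := th_one_eq χ (hE.mul h1) hFF
    rw [hred, th_zero, chiEval_blockElem_mul, if_pos hχ, ← th_one_eq χ h1 h2, h3, ← cast_dec] at h4
    exact_mod_cast h4.symm
  · refine (sub_eq_zero.1 (hzero (e - f) hd fun j => ?_)).symm
    have := hmu j
    by_cases hj : j = i
    · subst hj; rw [if_pos rfl] at this; omega
    · rw [if_neg hj] at this; omega

/-- A simple module in a block: the characters it occurs in lie in the block. -/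
lemma mem_of_inBlk (hM : IsPModular p M) (hB : IsPBlock M B) {i : Ix M G}
    (hi : InBlk M B i) {χ : IrrCharacter G} (h : dec M χ i ≠ 0) : χ ∈ B := by
  by_contra hχ
  exact h (dec_eq_zero_of_inBlk hM hB hi hχ)

lemma mem_of_not_inBlk (hM : IsPModular p M) (hB : IsPBlock M B) {i : Ix M G}
    (hi : ¬ InBlk M B i) {χ : IrrCharacter G} (h : dec M χ i ≠ 0) : χ ∉ B :=
  fun hχ => hi (inBlk_of_dec hM hB hχ h)

/-- A modular character of the block is a combination of the characters of the block. -/
lemma phi_eq_sum_block (hM : IsPModular p M) (hB : IsPBlock M B) {i : Ix M G} (hi : InBlk M B i)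
    {a : IrrCharacter G → ℂ}
    (h : ∀ g : G, ¬ p ∣ orderOf g → phi p M i g = ∑ χ, a χ * (χ : G → ℂ) g)
    {g : G} (hg : ¬ p ∣ orderOf g) :
    phi p M i g = ∑ χ ∈ Finset.univ.filter (· ∈ B), a χ * (χ : G → ℂ) g := by
  have hc := coeff_of_eq hM h
  have h1 : ∀ j, ∑ χ ∈ Finset.univ.filter (· ∈ B), a χ * (dec M χ j : ℂ) =
      if j = i then 1 else 0 := by
    intro j
    by_cases hj : InBlk M B j
    · rw [← hc j]
      exact Finset.sum_subset (Finset.subset_univ _) fun χ _ hχ => by
        rw [dec_eq_zero_of_inBlk hM hB hj (by simpa using hχ), Nat.cast_zero, mul_zero]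
    · rw [if_neg fun e : j = i => hj (e ▸ hi)]
      refine Finset.sum_eq_zero fun χ hχ => ?_
      by_cases hd : dec M χ j = 0
      · rw [hd, Nat.cast_zero, mul_zero]
      · exact absurd (Finset.mem_filter.1 hχ).2 (mem_of_not_inBlk hM hB hj hd)
  calc phi p M i g = ∑ j, (∑ χ ∈ Finset.univ.filter (· ∈ B), a χ * (dec M χ j : ℂ)) * phi p M j g := by
        simp only [h1, ite_mul, one_mul, zero_mul, Finset.sum_ite_eq', Finset.mem_univ, if_true]
    _ = _ := by
        simp only [Finset.sum_mul]
        rw [Finset.sum_comm]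
        refine Finset.sum_congr rfl fun χ _ => ?_
        rw [apply_eq_sum_dec hM χ hg, Finset.mul_sum]
        exact Finset.sum_congr rfl fun j _ => by ring

/-- **The span of the restricted characters of a block.** -/
theorem span_block (hM : IsPModular p M) (hB : IsPBlock M B) :
    Submodule.span ℂ ((fun χ : IrrCharacter G => pRegularPart p (χ : G → ℂ)) '' B) =
      Submodule.span ℂ (phi p M '' {i | InBlk M B i}) := by
  refine le_antisymm (Submodule.span_le.2 ?_) (Submodule.span_le.2 ?_)
  · rintro _ ⟨χ, hχ, rfl⟩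
    show pRegularPart p (χ : G → ℂ) ∈ _
    rw [pRegularPart_irr hM]
    refine Submodule.sum_mem _ fun j _ => ?_
    by_cases hd : dec M χ j = 0
    · rw [hd, Nat.cast_zero, zero_smul]; exact zero_mem _
    · exact Submodule.smul_mem _ _ (Submodule.subset_span ⟨j, inBlk_of_dec hM hB hχ hd, rfl⟩)
  · rintro _ ⟨i, hi, rfl⟩
    obtain ⟨a, ha⟩ := exists_phi_eq_sum hM i
    have h : ∀ g : G, ¬ p ∣ orderOf g → phi p M i g = ∑ χ, a χ * (χ : G → ℂ) g := fun g hg => by
      rw [ha, Finset.sum_apply]
      simp [pRegularPart_apply, hg]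
    have : phi p M i = ∑ χ ∈ Finset.univ.filter (· ∈ B), a χ • pRegularPart p (χ : G → ℂ) := by
      funext g
      simp only [Finset.sum_apply, Pi.smul_apply, smul_eq_mul, pRegularPart_apply, mul_ite, mul_zero]
      split_ifs with hg
      · rw [phi_singular _ hg, Finset.sum_const_zero]
      · exact phi_eq_sum_block hM hB hi h hg
    rw [SetLike.mem_coe, this]
    exact Submodule.sum_mem _ fun χ hχ =>
      Submodule.smul_mem _ _ (Submodule.subset_span ⟨χ, (Finset.mem_filter.1 hχ).2, rfl⟩)

/-- **The rank of a block counts its simple modules.** -/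
theorem blockRank_eq_card (hM : IsPModular p M) (hB : IsPBlock M B) :
    blockRank p B = (Finset.univ.filter (InBlk M B)).card := by
  rw [blockRank, span_block hM hB]
  have hli := (linearIndependent_phi (G := G) (M := M) hM).comp
    (Subtype.val : {i // InBlk M B i} → Ix M G) Subtype.val_injective
  have := finrank_span_eq_card hli
  rw [Set.range_comp, Subtype.range_coe_subtype, Fintype.card_subtype] at this
  exact this

end Cfsg.Lib.Blocks.IBr
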