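import Mathlib
import Cfsg.Agent.Blocks.IBr.Basic
import Cfsg.Agent.Modular.Trace

/-!
# Coefficients at the `p`-elements
-/

set_option autoImplicit false
set_option linter.unusedSectionVars false
set_option linter.style.haveILetI false

namespace Cfsg.Lib.Blocks.IBr

open Cfsg.Lib.Chars Cfsg.Lib.Blocks.Star Cfsg.Lib.Blocks.TwoMember
open scoped Classical

universe u

variable {G : Type u} [Group G] [Fintype G] {M : Ideal AlgInt} {p : ℕ}

/-- The coefficient of a `p`-power at the identity. -/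
theorem fn_pow_one (hM : IsPModular p M) (z : MonoidAlgebra (Res M) G) (n : ℕ) :
    fn (z ^ p ^ n) 1 = (∑ g ∈ Finset.univ.filter (fun g : G => g ^ p ^ n = 1), fn z g) ^ p ^ n := by
  haveI := Fact.mk hM.1
  haveI := charP_res hM
  let τ : MonoidAlgebra (Res M) G →ₗ[Res M] Res M :=
    (LinearMap.proj 1).comp (fnEquiv (Res M) G).toLinearMap
  have h := Cfsg.Lib.Modular.map_sum_pow (p := p) τ (fun a b => fn_mul_one_symm a b) (fun g => fn z g)
    (fun g => (MonoidAlgebra.single g 1 : MonoidAlgebra (Res M) G)) n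
  rw [show (∑ g, fn z g • MonoidAlgebra.single g (1 : Res M)) = z by
    conv_rhs => rw [eq_sum_single z]
    exact Finset.sum_congr rfl fun g _ => by rw [MonoidAlgebra.smul_single, smul_eq_mul, mul_one]] at h
  change fn (z ^ p ^ n) 1 = _ at h
  rw [h, sum_pow_char_pow, Finset.sum_filter]
  refine Finset.sum_congr rfl fun g _ => ?_
  show _ * fn ((MonoidAlgebra.single g (1 : Res M)) ^ p ^ n) 1 = _
  rw [MonoidAlgebra.single_pow, fn_single, one_pow]
  split_ifs <;> simp

/-- A nilpotent element sums to zero over the `p`-elements. -/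
theorem sum_pElem_eq_zero (hM : IsPModular p M) {z : MonoidAlgebra (Res M) G} (hz : IsNilpotent z)
    {n : ℕ} (hn : ∀ g : G, (∃ j, orderOf g = p ^ j) → g ^ p ^ n = 1) :
    ∑ g ∈ Finset.univ.filter (fun g : G => g ^ p ^ n = 1), fn z g = 0 := by
  obtain ⟨N, hN⟩ := hz
  obtain ⟨m, hnm, hm⟩ : ∃ m, n ≤ m ∧ N ≤ p ^ m :=
    ⟨max n N, le_max_left _ _, (le_max_right n N).trans (Nat.lt_pow_self hM.1.one_lt).le⟩
  have hset : Finset.univ.filter (fun g : G => g ^ p ^ n = 1) =
      Finset.univ.filter (fun g : G => g ^ p ^ m = 1) := by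
    ext g
    simp only [Finset.mem_filter, Finset.mem_univ, true_and]
    refine ⟨fun h => ?_, fun h => hn g ?_⟩
    · rw [show m = n + (m - n) by omega, pow_add, pow_mul, h, one_pow]
    · obtain ⟨j, -, hj⟩ := (Nat.dvd_prime_pow hM.1).1 (orderOf_dvd_of_pow_eq_one h)
      exact ⟨j, hj⟩
  have h := fn_pow_one hM z m
  rw [show z ^ p ^ m = 0 by
    obtain ⟨c, hc⟩ := Nat.exists_eq_add_of_le hm
    rw [hc, pow_add, hN, zero_mul], fn_zero, eq_comm, pow_eq_zero_iff (pow_pos hM.1.pos m).ne'] at h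
  rw [hset, h]

lemma pow_card_eq_one (hM : IsPModular p M) {g : G} (hg : ∃ j, orderOf g = p ^ j) :
    g ^ p ^ (Nat.card G).factorization p = 1 := by
  obtain ⟨j, hj⟩ := hg
  refine orderOf_dvd_iff_pow_eq_one.1 (hj ▸ pow_dvd_pow p ?_)
  exact (Nat.Prime.pow_dvd_iff_le_factorization hM.1 Nat.card_pos.ne').1 (hj ▸ orderOf_dvd_natCard g)

/-- For a group of order prime to `p` the semisimple quotient is faithful. -/
theorem hom_injective (hM : IsPModular p M) (hG : ¬ p ∣ Nat.card G) :
    Function.Injective (sys M G).hom := by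
  rw [injective_iff_map_eq_zero]
  intro x hx
  refine fn_ext fun g => ?_
  have hnil : IsNilpotent (MonoidAlgebra.single g⁻¹ 1 * x) :=
    (sys M G).ker_nil _ (by rw [map_mul, hx, mul_zero])
  have hone : Finset.univ.filter (fun h : G => h ^ p ^ (0 : ℕ) = 1) = {1} := by ext; simp
  have h := sum_pElem_eq_zero hM hnil (n := 0) fun h ⟨j, hj⟩ => by
    rcases j with _ | j
    · rw [pow_zero, pow_one]; rw [pow_zero, orderOf_eq_one_iff] at hj; exact hj
    · exact absurd ((dvd_pow_self p j.succ_ne_zero).trans (hj ▸ orderOf_dvd_natCard h)) hG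
  rw [hone, Finset.sum_singleton, fn_single_mul, inv_inv, mul_one, one_mul] at h
  exact h

end Cfsg.Lib.Blocks.IBr
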