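import Mathlib
import Cfsg.Agent.Blocks.IBr.Coeff
import Cfsg.Agent.Blocks.BrauerInduction
import Cfsg.Agent.Blocks.PiSection
import Cfsg.Agent.Chars.DefectZero

/-!
# Restriction of modular characters, and their lifts to generalized characters
-/

set_option autoImplicit false
set_option linter.unusedSectionVars false
set_option linter.style.haveILetI false

namespace Cfsg.Lib.Blocks.IBr

open Cfsg.Lib.Chars Cfsg.Lib.Blocks.Star Cfsg.Lib.Blocks.TwoMember Polynomial
open scoped Classical

universe u v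

variable {G : Type u} [Group G] [Fintype G] {M : Ideal AlgInt} {p : ℕ}

/-- Restriction of a modular character along an injective homomorphism. -/
theorem exists_phi_comp (hM : IsPModular p M) {H : Type v} [Group H] [Fintype H] (f : H →* G)
    (hf : Function.Injective f) (i : Ix M G) :
    ∃ r : Ix M H → ℕ, ∀ h : H, ¬ p ∣ orderOf h →
      phi p M i (f h) = ∑ j, (r j : ℂ) * phi p M j h := by
  let ι := MonoidAlgebra.mapDomainAlgHom (Res M) (Res M) f
  refine ⟨fun j => (sys M G).mu i (ι ((sys M H).eps j)), fun h hh => ?_⟩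
  have ho : orderOf (f h) = orderOf h := orderOf_injective f hf h
  rw [phi_regular _ (ho.symm ▸ hh), ho]
  simp only [phi_regular _ hh, Finset.mul_sum]
  rw [Finset.sum_comm]
  refine Finset.sum_congr rfl fun l hl => ?_
  have hl' := mem_roots hl
  have hmap : ι (red M (eigC h l)) = red M (eigC (f h) l) := by
    rw [red_eigC hM hh hl', red_eigC hM (ho.symm ▸ hh) (ho.symm ▸ hl'), map_sum, ho]
    refine Finset.sum_congr rfl fun j _ => ?_
    simp [ι, map_pow]
  have hadd := (sys M H).additive_eq_sum (fun a => (sys M G).mu i (ι a))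
    (by rw [map_zero, SimpleSystem.mu_zero])
    (fun e e' he he' h0 h0' => by
      rw [map_add]
      exact (sys M G).mu_add (by rw [← map_mul, he]) (by rw [← map_mul, he'])
        (by rw [← map_mul, h0, map_zero]) (by rw [← map_mul, h0', map_zero]) i)
    (fun e e' he he' h0 => by
      obtain ⟨a, b, h1, h2⟩ := h0
      exact (sys M G).mu_equiv (by rw [← map_mul, he]) (by rw [← map_mul, he'])
        ⟨ι a, ι b, by rw [← map_mul, h1], by rw [← map_mul, h2]⟩ i)
    (red_eigC_idem hM hh hl')
  rw [← hmap, hadd, Nat.cast_sum, Finset.mul_sum]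
  refine Finset.sum_congr rfl fun j _ => ?_
  rw [smul_eq_mul, Nat.cast_mul]
  ring

/-- **For a group of order prime to `p` the modular characters are the ordinary ones.** -/
theorem exists_irr_eq_phi (hM : IsPModular p M) (hG : ¬ p ∣ Nat.card G) (j : Ix M G) :
    ∃ χ : IrrCharacter G, ∀ g : G, phi p M j g = (χ : G → ℂ) g := by
  have hreg : ∀ g : G, ¬ p ∣ orderOf g := fun g h => hG (h.trans (orderOf_dvd_natCard g))
  -- the dimensions
  have hbij : Function.Bijective (sys M G).hom := ⟨hom_injective hM hG, (sys M G).surj⟩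
  have hdim : ∑ i, (sys M G).dim i * (sys M G).dim i = Nat.card G := by
    have h := (LinearEquiv.ofBijective (sys M G).hom.toLinearMap hbij).finrank_eq
    rw [(fnEquiv (Res M) G).finrank_eq, Module.finrank_fintype_fun_eq_card,
      Module.finrank_pi_fintype, ← Nat.card_eq_fintype_card] at h
    rw [h]
    exact Finset.sum_congr rfl fun i _ => by simp [Module.finrank_matrix]
  have hsq := sum_deg_sq_nat (G := G)
  have hcol : ∀ i, 1 ≤ ∑ χ : IrrCharacter G, dec M χ i ^ 2 := fun i => by
    obtain ⟨χ, hχ⟩ := exists_dec_ne_zero hM i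
    exact le_trans (Nat.one_le_pow _ _ (Nat.pos_of_ne_zero hχ))
      (Finset.single_le_sum (f := fun χ => dec M χ i ^ 2) (fun _ _ => Nat.zero_le _) (Finset.mem_univ χ))
  have hrow : ∀ χ : IrrCharacter G,
      ∑ i, dec M χ i ^ 2 * ((sys M G).dim i * (sys M G).dim i) ≤ deg (χ : G → ℂ) ^ 2 := fun χ => by
    rw [deg_eq_sum_dec hM]
    refine le_trans (le_of_eq (Finset.sum_congr rfl fun i _ => ?_))
      (Finset.sum_sq_le_sq_sum_of_nonneg fun i _ => Nat.zero_le _)
    ring
  have h1 : ∑ i, (∑ χ : IrrCharacter G, dec M χ i ^ 2) * ((sys M G).dim i * (sys M G).dim i) ≤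
      ∑ i, (sys M G).dim i * (sys M G).dim i := by
    rw [hdim, ← hsq]
    simp only [Finset.sum_mul]
    rw [Finset.sum_comm]
    exact Finset.sum_le_sum fun χ _ => hrow χ
  have h2 : ∀ i, (sys M G).dim i * (sys M G).dim i ≤ (∑ χ : IrrCharacter G, dec M χ i ^ 2) * ((sys M G).dim i * (sys M G).dim i) :=
    fun i => Nat.le_mul_of_pos_left _ (hcol i)
  have heq := (Finset.sum_eq_sum_iff_of_le fun i _ => h2 i).1
    (le_antisymm (Finset.sum_le_sum fun i _ => h2 i) h1)
  have hone : ∀ i, ∑ χ : IrrCharacter G, dec M χ i ^ 2 = 1 := fun i =>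
    Nat.eq_of_mul_eq_mul_right (Nat.mul_pos ((sys M G).dim_pos i) ((sys M G).dim_pos i))
      ((heq i (Finset.mem_univ _)).symm.trans (one_mul _).symm)
  obtain ⟨χ, hχ⟩ := exists_dec_ne_zero hM j
  have hχ1 : dec M χ j = 1 := by
    have := Finset.single_le_sum (f := fun χ => dec M χ j ^ 2) (fun _ _ => Nat.zero_le _) (Finset.mem_univ χ)
    rw [hone j] at this
    have h3 := Nat.pos_of_ne_zero hχ
    nlinarith
  -- the row
  have hrow1 : ∀ χ : IrrCharacter G,
      ∑ i, dec M χ i ^ 2 * ((sys M G).dim i * (sys M G).dim i) = deg (χ : G → ℂ) ^ 2 := by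
    have : ∑ χ : IrrCharacter G, ∑ i, dec M χ i ^ 2 * ((sys M G).dim i * (sys M G).dim i) =
        ∑ χ : IrrCharacter G, deg (χ : G → ℂ) ^ 2 := by
      rw [Finset.sum_comm, hsq, ← hdim]
      exact Finset.sum_congr rfl fun i _ => by rw [← Finset.sum_mul, hone i, one_mul]
    exact fun χ => (Finset.sum_eq_sum_iff_of_le fun χ _ => hrow χ).1 this χ (Finset.mem_univ _)
  have hoff : ∀ i, i ≠ j → dec M χ i = 0 := by
    intro i hi
    by_contra hne
    have h3 := hrow1 χ
    rw [deg_eq_sum_dec hM, ← Finset.add_sum_erase _ _ (Finset.mem_univ j),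
      ← Finset.add_sum_erase _ (fun i => dec M χ i * (sys M G).dim i) (Finset.mem_univ j),
      hχ1] at h3
    set X := ∑ x ∈ Finset.univ.erase j, dec M χ x ^ 2 * ((sys M G).dim x * (sys M G).dim x)
    set Y := ∑ x ∈ Finset.univ.erase j, dec M χ x * (sys M G).dim x
    have hX : X ≤ Y ^ 2 := le_trans
      (le_of_eq (Finset.sum_congr rfl fun x _ => by ring))
      (Finset.sum_sq_le_sq_sum_of_nonneg fun x _ => Nat.zero_le _)
    have hY : 0 < Y := lt_of_lt_of_le (Nat.mul_pos (Nat.pos_of_ne_zero hne) ((sys M G).dim_pos i))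
      (Finset.single_le_sum (f := fun x => dec M χ x * (sys M G).dim x) (fun _ _ => Nat.zero_le _)
        (by simp [hi]))
    have := Nat.mul_pos ((sys M G).dim_pos j) hY
    nlinarith
  refine ⟨χ, fun g => ?_⟩
  rw [apply_eq_sum_dec hM χ (hreg g), Finset.sum_eq_single j (fun i _ hi => by
    rw [hoff i hi, Nat.cast_zero, zero_mul]) (by simp), hχ1, Nat.cast_one, one_mul]

/-- **The lift of a modular character is a generalized character.** -/
theorem isGeneralized_lift (hM : IsPModular p M) (i : Ix M G) {t : ℕ}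
    (ht : ∀ g : G, ¬ p ∣ orderOf (g ^ t))
    (ht0 : t ≡ 0 [MOD p ^ (Nat.card G).factorization p])
    (ht1 : t ≡ 1 [MOD Nat.card G / p ^ (Nat.card G).factorization p]) :
    IsGeneralizedCharacter G (fun g => phi p M i (g ^ t)) := by
  haveI := Fact.mk hM.1
  refine isGeneralized_of_elementary (fun g h => ?_) fun E hE => ?_
  · show phi p M i ((h * g * h⁻¹) ^ t) = _
    rw [conj_pow, isClassFunction_phi hM i]
  obtain ⟨q, hq, hel⟩ := hE
  haveI := isNilpotent_of_isElementary hq hel
  obtain ⟨Q, hQ, hQp, -⟩ := exists_regular_part (E := E) p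
  have hmn : Nat.card G = p ^ (Nat.card G).factorization p *
      (Nat.card G / p ^ (Nat.card G).factorization p) := (Nat.ordProj_mul_ordCompl_eq_self _ _).symm
  have hcop : Nat.Coprime (p ^ (Nat.card G).factorization p)
      (Nat.card G / p ^ (Nat.card G).factorization p) :=
    Nat.Coprime.pow_left _ (Nat.coprime_ordCompl hM.1 Nat.card_pos.ne')
  have hmul := mul_pow_of_isNilpotent (G := E) ((Subgroup.card_subgroup_dvd_card E).trans hmn.dvd)
    hcop ht0 ht1
  let π : E →* Q := MonoidHom.mk' (fun e => ⟨e ^ t, (hQ _).2 (by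
    rw [← Subgroup.orderOf_coe]; exact ht _)⟩) fun a b => Subtype.ext (hmul a b)
  obtain ⟨r, hr⟩ := exists_phi_comp hM (E.subtype.comp Q.subtype)
    (E.subtype_injective.comp Q.subtype_injective) i
  choose χ hχ using exists_irr_eq_phi (G := Q) (p := p) hM hQp
  have hchar : IsCharacter E (∑ j, r j • fun e : E => ((χ j : IrrCharacter Q) : Q → ℂ) (π e)) :=
    IsCharacter.sum _ _ fun j _ => IsCharacter.nsmul
      (IsCharacter.comp_hom (isCharacter_of_irr (χ j).2) π) (r j)
  have heq : (fun e : E => phi p M i ((e : G) ^ t)) =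
      ∑ j, r j • fun e : E => ((χ j : IrrCharacter Q) : Q → ℂ) (π e) := by
    funext e
    rw [Finset.sum_apply]
    simp only [Pi.smul_apply, nsmul_eq_mul]
    show phi p M i ((e : G) ^ t) = _
    rw [show (e : G) ^ t = (E.subtype.comp Q.subtype) (π e) from rfl,
      hr _ (fun h => hQp (h.trans (orderOf_dvd_natCard _)))]
    exact Finset.sum_congr rfl fun j _ => by rw [hχ]
  rw [heq]
  exact IsCharacter.isGeneralized hchar

/-- **A modular character is an integral combination of restricted characters.** -/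
theorem exists_int_phi (hM : IsPModular p M) (i : Ix M G) :
    ∃ a : IrrCharacter G → ℤ, ∀ g : G, ¬ p ∣ orderOf g →
      phi p M i g = ∑ χ, (a χ : ℂ) * (χ : G → ℂ) g := by
  set s := (Nat.card G).factorization p
  have hcop : Nat.Coprime (p ^ s) (Nat.card G / p ^ s) :=
    Nat.Coprime.pow_left _ (Nat.coprime_ordCompl hM.1 Nat.card_pos.ne')
  obtain ⟨t, ht0, ht1⟩ := Nat.chineseRemainder hcop 0 1
  have hmn : p ^ s * (Nat.card G / p ^ s) = Nat.card G := Nat.ordProj_mul_ordCompl_eq_self _ _
  have hnd : ¬ p ∣ Nat.card G / p ^ s := Nat.not_dvd_ordCompl hM.1 Nat.card_pos.ne'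
  have ht : ∀ g : G, ¬ p ∣ orderOf (g ^ t) := fun g h => hnd (h.trans (orderOf_dvd_of_pow_eq_one (by
    rw [← pow_mul]
    refine orderOf_dvd_iff_pow_eq_one.1 ((orderOf_dvd_natCard g).trans ?_)
    conv_lhs => rw [← hmn]
    exact Nat.mul_dvd_mul_right (Nat.modEq_zero_iff_dvd.1 ht0) _)))
  have hgen := isGeneralized_lift hM i ht ht0 ht1
  have hcf : IsClassFunction G (fun g => phi p M i (g ^ t)) := fun g h => by
    show phi p M i ((h * g * h⁻¹) ^ t) = _
    rw [conj_pow, isClassFunction_phi hM i]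
  choose a ha using fun χ : IrrCharacter G =>
    classInner_generalized_int hgen (isCharacter_of_irr χ.2)
  refine ⟨a, fun g hg => ?_⟩
  have h := classFunction_expand_apply hcf g
  simp only [ha] at h
  rw [← h, pow_eq_self_of_modEq_one ((Nat.Coprime.pow_right _
    ((hM.1.coprime_iff_not_dvd.2 hg).symm)).dvd_of_dvd_mul_left
      (hmn.symm ▸ orderOf_dvd_natCard g)) ht1]

end Cfsg.Lib.Blocks.IBr
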