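import Mathlib
import Cfsg.Agent.Blocks.IBr.Lift
import Cfsg.Agent.Blocks.Projective
import Cfsg.Agent.Chars.Construct

/-!
# Degrees of the simple modules and of the projective indecomposable modules of a block
-/

set_option autoImplicit false
set_option linter.unusedSectionVars false

namespace Cfsg.Lib.Blocks.IBr

open Cfsg.Lib.Chars Cfsg.Lib.Blocks.Star
open scoped Classical

universe u

variable {G : Type u} [Group G] [Fintype G] {M : Ideal AlgInt} {p : ℕ} {B : Set (IrrCharacter G)}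

/-- The degree of the projective character of a simple module. -/
noncomputable def pdeg (M : Ideal AlgInt) (i : Ix M G) : ℕ :=
  ∑ χ : IrrCharacter G, dec M χ i * deg (χ : G → ℂ)

lemma pdeg_pos (hM : IsPModular p M) (i : Ix M G) : 0 < pdeg M i := by
  obtain ⟨χ, hχ⟩ := exists_dec_ne_zero hM i
  exact lt_of_lt_of_le (Nat.mul_pos (Nat.pos_of_ne_zero hχ) (deg_irr_pos χ))
    (Finset.single_le_sum (f := fun χ => dec M χ i * deg (χ : G → ℂ))
      (fun _ _ => Nat.zero_le _) (Finset.mem_univ χ))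

lemma pdeg_eq_sum_block (hM : IsPModular p M) (hB : IsPBlock M B) {i : Ix M G} (hi : InBlk M B i) :
    pdeg M i = ∑ χ ∈ Finset.univ.filter (· ∈ B), dec M χ i * deg (χ : G → ℂ) :=
  (Finset.sum_subset (Finset.subset_univ _) fun χ _ hχ => by
    rw [dec_eq_zero_of_inBlk hM hB hi (by simpa using hχ), zero_mul]).symm

/-- The degree of a projective character is divisible by the full power of `p`. -/
theorem pow_dvd_pdeg (hM : IsPModular p M) (i : Ix M G) :
    p ^ (Nat.card G).factorization p ∣ pdeg M i := by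
  haveI := Fact.mk hM.1
  obtain ⟨P⟩ : Nonempty (Sylow p G) := inferInstance
  haveI : Fintype (P : Subgroup G) := Fintype.ofFinite _
  set θ : G → ℂ := fun x => ∑ χ : IrrCharacter G, (dec M χ i : ℂ) * (χ : G → ℂ) x with hθ
  have hchar : IsCharacter G θ := by
    have h : IsCharacter G (∑ χ : IrrCharacter G, dec M χ i • (χ : G → ℂ)) :=
      IsCharacter.sum _ _ fun χ _ => IsCharacter.nsmul (isCharacter_of_irr χ.2) _
    convert h using 1
    funext x
    simp [hθ, Finset.sum_apply]
  obtain ⟨m, hm⟩ := classInner_char_nat (IsCharacter.comp_hom hchar (P : Subgroup G).subtype)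
    (isCharacter_one (G := (P : Subgroup G)))
  rw [classInner_def, Finset.sum_eq_single (1 : (P : Subgroup G)) (fun x _ hx => ?_) (by simp)] at hm
  · have h1 : θ 1 = (pdeg M i : ℂ) := by
      simp only [hθ, pdeg, Nat.cast_sum, Nat.cast_mul, irr_apply_one_eq_deg]
    simp only [map_one, mul_one, Subgroup.coe_subtype, Subgroup.coe_one, h1] at hm
    refine ⟨m, Nat.cast_injective (R := ℂ) ?_⟩
    rw [← P.card_eq_multiplicity, Nat.cast_mul, ← hm,
      mul_inv_cancel_left₀ (Nat.cast_ne_zero.2 Nat.card_pos.ne')]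
  · rw [mul_eq_zero]
    left
    obtain ⟨j, hj⟩ := IsPGroup.iff_orderOf.1 P.2 x
    refine sum_dec_mul_eq_zero hM i ?_
    rw [show orderOf ((P : Subgroup G).subtype x) = orderOf x from Subgroup.orderOf_coe x, hj]
    rcases j with _ | j
    · rw [pow_zero, orderOf_eq_one_iff] at hj; exact absurd hj hx
    · exact dvd_pow_self p j.succ_ne_zero

/-- A common divisor of the degrees of a block divides the dimensions of its simple modules. -/
theorem dvd_dim (hM : IsPModular p M) (hB : IsPBlock M B) {g : ℕ}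
    (hg : ∀ χ ∈ B, g ∣ deg ((χ : IrrCharacter G) : G → ℂ)) {i : Ix M G} (hi : InBlk M B i) :
    g ∣ (sys M G).dim i := by
  obtain ⟨a, ha⟩ := exists_int_phi hM i
  have h1 : ¬ p ∣ orderOf (1 : G) := by rw [orderOf_one]; exact hM.1.not_dvd_one
  have h := phi_eq_sum_block hM hB hi ha h1
  rw [phi_one hM] at h
  refine Int.natCast_dvd_natCast.1 ?_
  have e : ((sys M G).dim i : ℤ) =
      ∑ χ ∈ Finset.univ.filter (· ∈ B), a χ * (deg (χ : G → ℂ) : ℤ) := by
    apply Int.cast_injective (α := ℂ)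
    push_cast
    rw [h]
    exact Finset.sum_congr rfl fun χ _ => by rw [irr_apply_one_eq_deg]
  rw [e]
  exact Finset.dvd_sum fun χ hχ =>
    Dvd.dvd.mul_left (Int.natCast_dvd_natCast.2 (hg χ (Finset.mem_filter.1 hχ).2)) _

/-- The degree squares of a block through the simple modules. -/
theorem sum_sq_eq (hM : IsPModular p M) (hB : IsPBlock M B) :
    ∑ χ ∈ Finset.univ.filter (· ∈ B), deg (χ : G → ℂ) ^ 2 =
      ∑ i ∈ Finset.univ.filter (InBlk M B), (sys M G).dim i * pdeg M i := by
  calc ∑ χ ∈ Finset.univ.filter (· ∈ B), deg (χ : G → ℂ) ^ 2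
      = ∑ χ ∈ Finset.univ.filter (· ∈ B), ∑ i ∈ Finset.univ.filter (InBlk M B),
          (sys M G).dim i * (dec M χ i * deg (χ : G → ℂ)) :=
        Finset.sum_congr rfl fun χ hχ => by
          rw [sq]
          conv_lhs => arg 1; rw [deg_eq_sum_dec hM]
          rw [Finset.sum_mul, Finset.sum_filter]
          refine Finset.sum_congr rfl fun i _ => ?_
          split_ifs with hi
          · ring
          · by_cases hd : dec M χ i = 0
            · rw [hd, zero_mul, zero_mul]
            · exact absurd (inBlk_of_dec hM hB (Finset.mem_filter.1 hχ).2 hd) hi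
    _ = _ := by
        rw [Finset.sum_comm]
        exact Finset.sum_congr rfl fun i hi => by
          rw [pdeg_eq_sum_block hM hB (Finset.mem_filter.1 hi).2, Finset.mul_sum]

/-- **The degree square sum of a block.** -/
theorem exists_sq_factor (hM : IsPModular p M) (hB : IsPBlock M B) {g : ℕ}
    (hg1 : ∀ χ ∈ B, g ∣ deg ((χ : IrrCharacter G) : G → ℂ))
    (hgv : g.factorization p = (Nat.card G).factorization p - blockDefect p B) :
    ∃ v : ℕ, blockRank p B ≤ v ∧ ¬ p ∣ v ∧ ∑ χ ∈ Finset.univ.filter (· ∈ B), deg (χ : G → ℂ) ^ 2 =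
      p ^ (2 * (Nat.card G).factorization p - blockDefect p B) *
        (g / p ^ ((Nat.card G).factorization p - blockDefect p B)) ^ 2 * v := by
  set a := (Nat.card G).factorization p
  set d := blockDefect p B with hd
  obtain ⟨χ₀, hχ₀⟩ := IsPBlock.nonempty hM hB
  have hg0 : g ≠ 0 := fun h => (deg_irr_pos χ₀).ne' (Nat.eq_zero_of_zero_dvd (h ▸ hg1 χ₀ hχ₀))
  have hgu : p ^ (a - d) * (g / p ^ (a - d)) = g :=
    Nat.mul_div_cancel' (hgv ▸ Nat.ordProj_dvd g p)
  set u := g / p ^ (a - d) with hu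
  have hup : ¬ p ∣ u := by rw [hu, ← hgv]; exact Nat.not_dvd_ordCompl hM.1 hg0
  have hda : d ≤ a := Nat.sub_le _ _
  set S := Finset.univ.filter (InBlk (G := G) M B) with hS
  have hP : ∀ i ∈ S, ∃ w, 0 < w ∧ (sys M G).dim i * pdeg M i = p ^ (2 * a - d) * u ^ 2 * w := by
    intro i hi
    have hiB := (Finset.mem_filter.1 hi).2
    obtain ⟨m, hm⟩ := dvd_dim hM hB hg1 hiB
    have h1 : u ∣ pdeg M i := by
      rw [pdeg_eq_sum_block hM hB hiB]
      exact Finset.dvd_sum fun χ hχ =>
        Dvd.dvd.mul_left ((Dvd.intro_left _ hgu).trans (hg1 χ (Finset.mem_filter.1 hχ).2)) _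
    obtain ⟨c, hc⟩ := (Nat.Coprime.pow_left a ((hM.1.coprime_iff_not_dvd).2 hup)).mul_dvd_of_dvd_of_dvd
      (pow_dvd_pdeg hM i) h1
    have hm0 : 0 < m := Nat.pos_of_ne_zero fun h => ((sys M G).dim_pos i).ne' (by rw [hm, h, mul_zero])
    have hc0 : 0 < c := Nat.pos_of_ne_zero fun h => (pdeg_pos hM i).ne' (by rw [hc, h, mul_zero])
    refine ⟨m * c, Nat.mul_pos hm0 hc0, ?_⟩
    rw [hm, hc, ← hgu, show 2 * a - d = (a - d) + a by omega, pow_add]
    ring
  choose! w hw0 hw using hP
  have hsum : ∑ χ ∈ Finset.univ.filter (· ∈ B), deg (χ : G → ℂ) ^ 2 =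
      p ^ (2 * a - d) * u ^ 2 * ∑ i ∈ S, w i := by
    rw [sum_sq_eq hM hB, Finset.mul_sum]
    exact Finset.sum_congr rfl fun i hi => hw i hi
  refine ⟨∑ i ∈ S, w i, ?_, ?_, hsum⟩
  · rw [blockRank_eq_card hM hB, Finset.card_eq_sum_ones]
    exact Finset.sum_le_sum fun i hi => hw0 i hi
  · intro hdvd
    have hfac := factorization_sum_sq hM hB
    rw [sum_finsum_eq, hsum] at hfac
    have hu0 : u ≠ 0 := fun h => hg0 (by rw [← hgu, h, mul_zero])
    have hw' : ∑ i ∈ S, w i ≠ 0 := by
      obtain ⟨χ, hχ⟩ := IsPBlock.nonempty hM hB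
      intro h
      rw [h, mul_zero] at hsum
      exact (deg_irr_pos χ).ne' (pow_eq_zero_iff two_ne_zero |>.1
        (Finset.sum_eq_zero_iff.1 hsum χ (by simp [hχ])))
    have hp0 : p ^ (2 * a - d) ≠ 0 := pow_ne_zero _ hM.1.ne_zero
    rw [Nat.factorization_mul (mul_ne_zero hp0 (pow_ne_zero _ hu0)) hw', Finsupp.add_apply,
      Nat.factorization_mul hp0 (pow_ne_zero _ hu0), Finsupp.add_apply, hM.1.factorization_pow,
      Finsupp.single_eq_same, Nat.factorization_pow, Finsupp.smul_apply,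
      Nat.factorization_eq_zero_of_not_dvd hup] at hfac
    have := hM.1.factorization_pos_of_dvd hw' hdvd
    simp only [smul_zero, add_zero] at hfac
    omega

end Cfsg.Lib.Blocks.IBr
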