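import Mathlib
import Cfsg.Agent.Blocks.IBr.Degrees
import Cfsg.Agent.Blocks.RankOneSmall.BlockBound

/-!
# The centre of a block algebra and its corner at a primitive idempotent
-/

set_option autoImplicit false
set_option linter.unusedSectionVars false
set_option linter.style.haveILetI false

namespace Cfsg.Lib.Blocks.IBr

open Module Cfsg.Lib.Chars Cfsg.Lib.Blocks.Star Cfsg.Lib.Blocks.TwoMember Cfsg.Lib.Blocks.RankOneSmall
open scoped Classical ComplexConjugate

universe u

variable {G : Type u} [Group G] [Fintype G] {M : Ideal AlgInt} {p : ℕ} {B : Set (IrrCharacter G)}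

/-- The centre of the block algebra. -/
noncomputable def zBlock (M : Ideal AlgInt) (B : Set (IrrCharacter G)) :
    Submodule (Res M) (MonoidAlgebra (Res M) G) :=
  corner (Res M) (red M (blockElem B)) ⊓
    (Subalgebra.center (Res M) (MonoidAlgebra (Res M) G)).toSubmodule

lemma mem_center_of_central {z : MonoidAlgebra (Res M) G} (h : IsCentralFn z) :
    z ∈ (Subalgebra.center (Res M) (MonoidAlgebra (Res M) G)).toSubmodule :=
  (Subalgebra.mem_center_iff (R := Res M)).2 fun b => (h.comm b).symm

lemma mem_zBlock {z : MonoidAlgebra (Res M) G} :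
    z ∈ zBlock M B ↔ IsCentralFn z ∧ red M (blockElem B) * z = z := by
  refine ⟨fun h => ⟨fun g x => ?_, h.1⟩, fun h => ⟨h.2, mem_center_of_central h.1⟩⟩
  have h1 := congrArg (fun a => fn a (x * g))
    ((Subalgebra.mem_center_iff (R := Res M)).1 h.2 (MonoidAlgebra.single x (1 : Res M)))
  simp only [fn_single_mul, fn_mul_single, one_mul, mul_one, inv_mul_cancel_left] at h1
  exact h1.symm

theorem finrank_zBlock (hM : IsPModular p M) (hB : IsPBlock M B) :
    finrank (Res M) (zBlock M B) = Nat.card B := by
  refine le_antisymm (finrank_center_le hM hB) ?_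
  haveI : Fintype B := Fintype.ofFinite _
  have hli : LinearIndependent ℂ (fun χ : B =>
      fn (blockElem ({(χ : IrrCharacter G)} : Set (IrrCharacter G)))) := by
    rw [Fintype.linearIndependent_iff]
    intro c hc χ
    have h : ∑ ψ : B, c ψ • blockElem ({(ψ : IrrCharacter G)} : Set (IrrCharacter G)) = 0 :=
      fn_ext fun g => by
        have := congrFun hc g
        rw [Finset.sum_apply] at this
        rw [fn_sum, fn_zero]
        simpa only [fn_smul, Pi.smul_apply, smul_eq_mul, Pi.zero_apply] using this
    have h1 := congrArg (omega ((χ : IrrCharacter G) : G → ℂ)) h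
    rw [omega_sum, omega_zero, Finset.sum_eq_single χ (fun ψ _ hne => by
      rw [omega_smul, omega_single, if_neg fun e => hne (Subtype.ext e.symm), mul_zero]) (by simp),
      omega_smul, omega_single, if_pos rfl, mul_one] at h1
    exact h1
  have hdim : finrank ℂ (idemSpan B) = Nat.card B := by
    rw [Nat.card_eq_fintype_card, ← finrank_span_eq_card hli]
    unfold idemSpan
    rw [Set.image_eq_range]
  rw [← hdim, ← finrank_redSub M (idemSpan B)]
  have hprop : ∀ x ∈ idemSpan B, IsCentralFn (ofFn x) ∧ blockElem B * ofFn x = ofFn x := by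
    intro x hx
    induction hx using Submodule.span_induction with
    | mem y hy =>
      obtain ⟨χ, hχ, rfl⟩ := hy
      rw [show ofFn (fn (blockElem ({χ} : Set (IrrCharacter G)))) = blockElem {χ} from
        fn_ext fun g => by rw [fn_ofFn]]
      refine ⟨isCentralFn_blockElem _, eq_of_omega_eq ((isCentralFn_blockElem B).mul
        (isCentralFn_blockElem _)) (isCentralFn_blockElem _) fun θ => ?_⟩
      rw [omega_mul θ (isCentralFn_blockElem B), omega_blockElem, omega_single]
      by_cases h : θ = χ
      · simp [h, hχ]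
      · simp [h]
    | zero =>
      have : (ofFn (0 : G → ℂ)) = 0 := fn_ext fun g => by rw [fn_ofFn]; rfl
      rw [this]
      exact ⟨isCentralFn_zero, mul_zero _⟩
    | add y z _ _ hy hz =>
      have : ofFn (y + z) = ofFn y + ofFn z := fn_ext fun g => by simp
      rw [this]
      exact ⟨hy.1.add hz.1, by rw [mul_add, hy.2, hz.2]⟩
    | smul c y _ hy =>
      have : ofFn (c • y) = c • ofFn y := fn_ext fun g => by simp
      rw [this]
      exact ⟨hy.1.smul c, by rw [mul_smul_comm, hy.2]⟩
  have hle : redSub M (idemSpan B) ≤ (zBlock M B).map (fnEquiv (Res M) G).toLinearMap := by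
    rintro _ ⟨x, hx, hxi, rfl⟩
    obtain ⟨h1, h2⟩ := hprop x hx
    refine ⟨red M (ofFn x), mem_zBlock.2 ⟨h1.red, ?_⟩, (resVec_eq x).symm⟩
    rw [← red_mul (integral_blockElem hM hB) (fun g => by rw [fn_ofFn]; exact hxi g), h2]
  refine (Submodule.finrank_mono hle).trans (le_of_eq ?_)
  exact ((fnEquiv (Res M) G).submoduleMap (zBlock M B)).finrank_eq.symm

/-- The corner at an idempotent has at most `∑ χ(ê)²` dimensions. -/
theorem finrank_corner_eps_le (hM : IsPModular p M) (i : Ix M G) :
    finrank (Res M) (LinearMap.range ((LinearMap.mulLeft (Res M) ((sys M G).eps i)).comp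
      (LinearMap.mulRight (Res M) ((sys M G).eps i)))) ≤ ∑ χ : IrrCharacter G, dec M χ i ^ 2 := by
  obtain ⟨F, h1, h2, h3⟩ := exists_lift_one ((sys M G).eps_idem i)
  set e := (sys M G).eps i
  let L : Module.End ℂ (G → ℂ) := (fnEquiv ℂ G).conj
    ((LinearMap.mulLeft ℂ F).comp (LinearMap.mulRight ℂ F))
  have hL : ∀ x : G → ℂ, L x = fn (F * (ofFn x * F)) := fun x => rfl
  have hLL : LinearMap.IsProj (LinearMap.range L) L := by
    refine ⟨fun x => ⟨x, rfl⟩, ?_⟩
    rintro _ ⟨y, rfl⟩
    rw [hL (L y), hL y, show ofFn (fn (F * (ofFn y * F))) = F * (ofFn y * F) from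
      fn_ext fun g => by rw [fn_ofFn]]
    simp only [← mul_assoc, h2]
    simp only [mul_assoc, h2]
  have hle : (LinearMap.range ((LinearMap.mulLeft (Res M) e).comp
      (LinearMap.mulRight (Res M) e))).map (fnEquiv (Res M) G).toLinearMap ≤
      redSub M (LinearMap.range L) := by
    rintro _ ⟨_, ⟨x, rfl⟩, rfl⟩
    choose lift hlift1 hlift2 using exists_res_eq (M := M)
    set X : MonoidAlgebra ℂ G := ofFn fun g => lift (fn x g) with hX
    have hXi : Integral M X := fun g => by rw [hX, fn_ofFn]; exact hlift1 _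
    have hXr : red M X = x := fn_ext fun g => by rw [fn_red, hX, fn_ofFn, hlift2]
    refine ⟨L (fn X), ⟨_, rfl⟩, fun g => ?_, ?_⟩
    · rw [hL, show ofFn (fn X) = X from fn_ext fun g => by rw [fn_ofFn]]
      exact (h1.mul (hXi.mul h1)) g
    · rw [resVec_eq, hL, show ofFn (fn X) = X from fn_ext fun g => by rw [fn_ofFn],
        show ofFn (fn (F * (X * F))) = F * (X * F) from fn_ext fun g => by rw [fn_ofFn],
        red_mul h1 (hXi.mul h1), red_mul hXi h1, h3, hXr]
      rfl
  have hfin := Submodule.finrank_mono hle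
  rw [finrank_redSub, ((fnEquiv (Res M) G).submoduleMap _).finrank_eq.symm] at hfin
  refine hfin.trans (le_of_eq (Nat.cast_injective (R := ℂ) ?_))
  rw [← hLL.trace, LinearMap.trace_eq_matrix_trace ℂ (Pi.basisFun ℂ G),
    LinearMap.toMatrix_eq_toMatrix', Matrix.trace]
  simp only [Matrix.diag_apply, LinearMap.toMatrix'_apply, hL]
  have hterm : ∀ g : G, fn (F * (ofFn (Pi.single g (1 : ℂ)) * F)) g =
      ∑ a : G, fn F a * fn F (g⁻¹ * a⁻¹ * g) := fun g => by
    rw [fn_mul]
    refine Finset.sum_congr rfl fun a _ => ?_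
    rw [show ofFn (Pi.single g (1 : ℂ)) = MonoidAlgebra.single g (1 : ℂ) from
      fn_ext fun x => by rw [fn_ofFn, fn_single, Pi.single_apply]; simp [eq_comm],
      fn_single_mul, one_mul, mul_assoc]
  simp only [hterm, Nat.cast_sum, Nat.cast_pow, cast_dec]
  have hconj : ∀ a : G, ∑ g : G, fn F (g⁻¹ * a⁻¹ * g) =
      ∑ b : G, (∑ χ : IrrCharacter G, (χ : G → ℂ) a * (χ : G → ℂ) b) * fn F b := by
    intro a
    have hcount : ∀ b : G, ((Finset.univ.filter fun g : G => g⁻¹ * a⁻¹ * g = b).card : ℂ) =
        ∑ χ : IrrCharacter G, (χ : G → ℂ) a * (χ : G → ℂ) b := by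
      intro b
      have h0 := second_orthogonality a b⁻¹
      simp only [IsCharacter.conj_inv (isCharacter_of_irr (Subtype.property _)),
        RingHomCompTriple.comp_apply, RingHom.id_apply] at h0
      rw [h0]
      split_ifs with hab
      · obtain ⟨c, hc⟩ := isConj_iff.1 hab
        rw [Nat.cast_inj, ← Fintype.card_subtype, ← Nat.card_eq_fintype_card]
        refine (Nat.card_congr ?_).symm
        refine
          { toFun := fun z => ⟨(z : G) * c⁻¹, ?_⟩
            invFun := fun g => ⟨(g : G) * c, ?_⟩
            left_inv := fun z => Subtype.ext (by simp)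
            right_inv := fun g => Subtype.ext (by simp) }
        · have hz := Subgroup.mem_centralizer_singleton_iff.1 z.2
          have hb : b = c * a⁻¹ * c⁻¹ := by
            rw [← inv_inv b, ← hc]; group
          rw [hb]
          calc ((z : G) * c⁻¹)⁻¹ * a⁻¹ * ((z : G) * c⁻¹)
              = c * ((z : G)⁻¹ * (a⁻¹ * (z : G))) * c⁻¹ := by group
            _ = c * a⁻¹ * c⁻¹ := by
                have h2 : a⁻¹ * (z : G) = (z : G) * a⁻¹ := by
                  rw [inv_mul_eq_iff_eq_mul, ← mul_assoc, ← hz, mul_assoc, mul_inv_cancel, mul_one]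
                rw [h2, inv_mul_cancel_left]
        · rw [Subgroup.mem_centralizer_singleton_iff]
          have hg : (g : G)⁻¹ * a⁻¹ * g = b := g.2
          have hb : b = c * a⁻¹ * c⁻¹ := by
            rw [← inv_inv b, ← hc]; group
          replace hg := hg.trans hb
          have h2 : a⁻¹ * ((g : G) * c) = (g : G) * c * a⁻¹ := by
            calc a⁻¹ * ((g : G) * c) = (g : G) * ((g : G)⁻¹ * a⁻¹ * g) * c := by group
              _ = (g : G) * c * a⁻¹ := by rw [hg]; group
          calc (g : G) * c * a = a * (a⁻¹ * ((g : G) * c)) * a := by group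
            _ = a * ((g : G) * c) := by rw [h2]; group
      · rw [Finset.filter_false_of_mem fun g _ hg => hab ?_, Finset.card_empty, Nat.cast_zero]
        exact isConj_iff.2 ⟨g⁻¹, by rw [← hg]; group⟩
    simp only [← hcount]
    rw [← Finset.sum_fiberwise Finset.univ (fun g => g⁻¹ * a⁻¹ * g) fun g => fn F (g⁻¹ * a⁻¹ * g)]
    refine Finset.sum_congr rfl fun b _ => ?_
    rw [Finset.sum_congr rfl fun g hg => by rw [(Finset.mem_filter.1 hg).2], Finset.sum_const,
      nsmul_eq_mul]
  rw [Finset.sum_comm]
  calc ∑ a : G, ∑ g : G, fn F a * fn F (g⁻¹ * a⁻¹ * g)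
      = ∑ a : G, ∑ b : G, ∑ χ : IrrCharacter G,
          (fn F a * (χ : G → ℂ) a) * (fn F b * (χ : G → ℂ) b) :=
        Finset.sum_congr rfl fun a _ => by
          rw [← Finset.mul_sum, hconj, Finset.mul_sum]
          refine Finset.sum_congr rfl fun b _ => ?_
          rw [Finset.sum_mul, Finset.mul_sum]
          exact Finset.sum_congr rfl fun χ _ => by ring
    _ = ∑ χ : IrrCharacter G, (th M χ 1 e) ^ 2 := by
        rw [Finset.sum_congr rfl fun a _ => Finset.sum_comm, Finset.sum_comm]
        refine Finset.sum_congr rfl fun χ _ => ?_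
        rw [← h3, th_one_eq χ h1 h2, sq, chiEval, Finset.sum_mul_sum]

/-- The two-sided ideal of an idempotent, as a subspace. -/
lemma eq_zero_of_mul_eps (hM : IsPModular p M) {z : MonoidAlgebra (Res M) G} (hz : IsCentralFn z)
    {f : MonoidAlgebra (Res M) G} (hf : f * f = f)
    (h : ∀ j, (sys M G).mu j f ≠ 0 → z * (sys M G).eps j = 0) : z * f = 0 := by
  set T : MonoidAlgebra (Res M) G → Submodule (Res M) (MonoidAlgebra (Res M) G) := fun e =>
    Submodule.span (Res M) {x | ∃ a b, x = a * e * b} with hT
  have hmem : ∀ e a b, a * e * b ∈ T e := fun e a b => Submodule.subset_span ⟨a, b, rfl⟩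
  have hkey := (sys M G).additive_eq_sum T ?_ ?_ ?_ hf
  · have hfT : f ∈ T f := by simpa using hmem f 1 1
    rw [hkey] at hfT
    have hle : (∑ j, (sys M G).mu j f • T ((sys M G).eps j)) ≤
        LinearMap.ker (LinearMap.mulLeft (Res M) z) := by
      refine Finset.sum_induction _ (· ≤ LinearMap.ker (LinearMap.mulLeft (Res M) z))
        (fun a b ha hb => sup_le ha hb) bot_le fun j _ => ?_
      rcases Nat.eq_zero_or_pos ((sys M G).mu j f) with h0 | h0
      · rw [h0, zero_smul]; exact bot_le
      · refine le_trans ?_ (show T ((sys M G).eps j) ≤ _ from Submodule.span_le.2 ?_)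
        · obtain ⟨n, hn⟩ := Nat.exists_eq_succ_of_ne_zero h0.ne'
          rw [hn]
          clear hn h0
          induction n with
          | zero => rw [show Nat.succ 0 = 1 from rfl, one_smul]
          | succ n ih => rw [Nat.succ_eq_add_one (n + 1), add_smul, one_smul]; exact sup_le ih le_rfl
        · rintro _ ⟨a, b, rfl⟩
          show z * (a * (sys M G).eps j * b) = 0
          rw [← mul_assoc, ← mul_assoc, hz.comm a, mul_assoc a z, h j h0.ne', mul_zero, zero_mul]
    exact hle hfT
  · exact (Submodule.span_eq_bot.2 fun x ⟨a, b, hx⟩ => by rw [hx, mul_zero, zero_mul])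
  · intro e e' he he' hee' he'e
    refine le_antisymm (Submodule.span_le.2 ?_) (sup_le (Submodule.span_le.2 ?_) (Submodule.span_le.2 ?_))
    · rintro _ ⟨a, b, rfl⟩
      rw [mul_add, add_mul]
      exact Submodule.add_mem_sup (hmem e a b) (hmem e' a b)
    · rintro _ ⟨a, b, rfl⟩
      rw [show a * e * b = a * (e + e') * (e * b) by
        rw [mul_assoc a (e + e'), add_mul, ← mul_assoc e, he, ← mul_assoc e', he'e, zero_mul,
          add_zero, mul_assoc]]
      exact hmem _ _ _
    · rintro _ ⟨a, b, rfl⟩
      rw [show a * e' * b = a * (e + e') * (e' * b) by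
        rw [mul_assoc a (e + e'), add_mul, ← mul_assoc e', he', ← mul_assoc e, hee', zero_mul,
          zero_add, mul_assoc]]
      exact hmem _ _ _
  · intro e e' he he' ⟨u, v, huv, hvu⟩
    refine le_antisymm (Submodule.span_le.2 ?_) (Submodule.span_le.2 ?_)
    · rintro _ ⟨a, b, rfl⟩
      rw [show a * e * b = a * u * e' * (v * b) by
        rw [← hvu]; conv_lhs => rw [← he, ← huv]
        simp only [mul_assoc]]
      exact hmem _ _ _
    · rintro _ ⟨a, b, rfl⟩
      rw [show a * e' * b = a * v * e * (u * b) by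
        rw [← huv]; conv_lhs => rw [← he', ← hvu]
        simp only [mul_assoc]]
      exact hmem _ _ _

/-- A simple module outside the block does not occur in the block idempotent. -/
lemma mu_blk_eq_zero (hM : IsPModular p M) (hB : IsPBlock M B) {j : Ix M G}
    (hj : ¬ InBlk M B j) : (sys M G).mu j (red M (blockElem B)) = 0 := by
  set eb := red M (blockElem B)
  set e := (sys M G).eps j
  have hee := (sys M G).eps_idem j
  have hbb : eb * eb = eb := by
    rw [← red_mul (integral_blockElem hM hB) (integral_blockElem hM hB), blockElem_mul_self]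
  have hc : ∀ a, eb * a = a * eb := blk_mul_idem hM hB
  have hff : eb * e * (eb * e) = eb * e := by
    rw [mul_assoc, ← mul_assoc e, ← hc e, mul_assoc eb e e, hee, ← mul_assoc, hbb]
  have hfe : eb * e * e = eb * e := by rw [mul_assoc, hee]
  have hef : e * (eb * e) = eb * e := by rw [← mul_assoc, ← hc e, mul_assoc, hee]
  have hd : (e - eb * e) * (e - eb * e) = e - eb * e := by
    rw [sub_mul, mul_sub, mul_sub, hee, hef, hfe, hff]; abel
  have hmu : ∀ l, (sys M G).mu l (eb * e) + (sys M G).mu l (e - eb * e) = if l = j then 1 else 0 := by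
    intro l
    rw [← SimpleSystem.mu_add _ hff hd (by rw [mul_sub, hfe, hff, sub_self])
      (by rw [sub_mul, hef, hff, sub_self]), add_sub_cancel]
    exact (sys M G).mu_eps j l
  have hzero : ∀ a : MonoidAlgebra (Res M) G, a * a = a → (∀ l, (sys M G).mu l a = 0) → a = 0 :=
    fun a ha h' => (sys M G).eq_zero_of_hom ha (funext fun l => rank_eq_zero_iff'.1 (h' l))
  have hf0 : eb * e = 0 := by
    refine hzero _ hff fun l => ?_
    have := hmu l
    by_cases hl : l = j
    · subst hl
      rw [if_pos rfl] at this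
      rcases Nat.eq_zero_or_pos ((sys M G).mu l (eb * e)) with h0 | h0
      · exact h0
      · exfalso
        refine hj (sub_eq_zero.1 (hzero _ hd fun m => ?_)).symm
        have := hmu m
        by_cases hm : m = l
        · subst hm; omega
        · rw [if_neg hm] at this; omega
    · rw [if_neg hl] at this; omega
  have hπ : (sys M G).hom eb j = 0 := by
    set Q := (sys M G).hom eb j
    set z := (sys M G).zeroIdx j
    have h0 : Q * Matrix.single z z 1 = 0 := by
      have h := congrFun (congrArg (sys M G).hom hf0) j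
      rw [map_mul, map_zero, Pi.mul_apply, Pi.zero_apply] at h
      show Q * _ = 0
      rw [← h, show (sys M G).hom e j = Matrix.single z z 1 by
        rw [(sys M G).hom_eps, SimpleSystem.unit, Pi.single_eq_same]]
    have hcomm : ∀ A : Matrix _ _ (Res M), Q * A = A * Q := fun A => by
      obtain ⟨a, ha⟩ := (sys M G).surj (Pi.single j A)
      have h := congrFun (congrArg (sys M G).hom (hc a)) j
      rwa [map_mul, map_mul, Pi.mul_apply, Pi.mul_apply, ha, Pi.single_eq_same] at h
    ext b c
    have h3 := congrFun (congrFun (hcomm (Matrix.single z b (1 : Res M))) z) c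
    have h4 := congrFun (congrFun h0 z) z
    rw [Matrix.mul_single_apply_same, mul_one] at h4
    rw [Matrix.single_mul_apply_same, one_mul] at h3
    rw [← h3]
    by_cases hcb : c = b
    · subst hcb; rw [Matrix.mul_single_apply_same, mul_one, h4]; rfl
    · rw [Matrix.mul_single_apply_of_ne (hbj := hcb)]; rfl
  rw [SimpleSystem.mu, hπ, Matrix.rank_zero]

end Cfsg.Lib.Blocks.IBr
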