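import Mathlib
import Cfsg.Agent.Blocks.IBr.Centre
import Cfsg.Agent.Blocks.RankOneBlock

/-!
# Blocks all of whose characters have the same degree
-/

set_option autoImplicit false
set_option linter.unusedSectionVars false

namespace Cfsg.Lib.Blocks.IBr

open Cfsg.Lib.Chars Cfsg.Lib.Blocks.Star
open scoped Classical ComplexConjugate

universe u

variable {G : Type u} [Group G] [Fintype G] {M : Ideal AlgInt} {p : ℕ} {B : Set (IrrCharacter G)}

/-- Each character of such a block restricts irreducibly. -/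
theorem exists_unique_dec (hM : IsPModular p M) (hB : IsPBlock M B) {f : ℕ}
    (hf : ∀ χ ∈ B, deg ((χ : IrrCharacter G) : G → ℂ) = f) {χ : IrrCharacter G} (hχ : χ ∈ B) :
    ∃ i, InBlk M B i ∧ dec M χ i = 1 ∧ (sys M G).dim i = f ∧ ∀ j, j ≠ i → dec M χ j = 0 := by
  have hdeg := deg_eq_sum_dec hM χ
  rw [hf χ hχ] at hdeg
  have hf0 : 0 < f := hf χ hχ ▸ deg_irr_pos χ
  obtain ⟨i, -, hi⟩ := Finset.exists_ne_zero_of_sum_ne_zero (hdeg ▸ hf0.ne')
  have hd : dec M χ i ≠ 0 := fun h => hi (by rw [h, zero_mul])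
  have hiB := inBlk_of_dec hM hB hχ hd
  have hle : f ≤ (sys M G).dim i := Nat.le_of_dvd ((sys M G).dim_pos i)
    (dvd_dim hM hB (fun ψ hψ => (hf ψ hψ).symm.dvd) hiB)
  rw [← Finset.add_sum_erase _ _ (Finset.mem_univ i)] at hdeg
  have hpos := Nat.pos_of_ne_zero hd
  have hdim : dec M χ i = 1 ∧ (sys M G).dim i = f := by
    have h1 : (sys M G).dim i ≤ dec M χ i * (sys M G).dim i := Nat.le_mul_of_pos_left _ hpos
    refine ⟨?_, by omega⟩
    have h2 : dec M χ i * (sys M G).dim i ≤ 1 * (sys M G).dim i := by omega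
    have := Nat.le_of_mul_le_mul_right h2 ((sys M G).dim_pos i)
    omega
  refine ⟨i, hiB, hdim.1, hdim.2, fun j hj => ?_⟩
  by_contra hne
  have h3 : (sys M G).dim j ≤ ∑ x ∈ Finset.univ.erase i, dec M χ x * (sys M G).dim x :=
    (Nat.le_mul_of_pos_left _ (Nat.pos_of_ne_zero hne)).trans
      (Finset.single_le_sum (f := fun x => dec M χ x * (sys M G).dim x) (fun _ _ => Nat.zero_le _)
        (by simp [hj]))
  have := (sys M G).dim_pos j
  rw [hdim.1, hdim.2, one_mul] at hdeg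
  omega

/-- **Such a block has a single simple module**, and all decomposition numbers are one. -/
theorem exists_single (hM : IsPModular p M) (hB : IsPBlock M B) {f : ℕ}
    (hf : ∀ χ ∈ B, deg ((χ : IrrCharacter G) : G → ℂ) = f) :
    ∃ i, InBlk M B i ∧ (∀ χ ∈ B, dec M χ i = 1) ∧ (∀ j, InBlk M B j → j = i) := by
  obtain ⟨χ₀, hχ₀⟩ := IsPBlock.nonempty hM hB
  obtain ⟨i, hi, hd, hdim, hoff⟩ := exists_unique_dec hM hB hf hχ₀
  set S : Set (IrrCharacter G) := {χ | χ ∈ B ∧ dec M χ i ≠ 0} with hS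
  have hval : ∀ χ ∈ S, dec M χ i = 1 ∧ ∀ g : G, ¬ p ∣ orderOf g →
      (χ : G → ℂ) g = phi p M i g := by
    intro χ ⟨hχ, hne⟩
    obtain ⟨j, -, hj, -, hoffj⟩ := exists_unique_dec hM hB hf hχ
    obtain rfl : i = j := by by_contra h; exact hne (hoffj i h)
    refine ⟨hj, fun g hg => ?_⟩
    rw [apply_eq_sum_dec hM χ hg, Finset.sum_eq_single i
      (fun l _ hl => by rw [hoffj l hl, Nat.cast_zero, zero_mul]) (by simp), hj, Nat.cast_one, one_mul]
  -- the idempotent of `S` is integral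
  have hpdeg : pdeg M i = (Finset.univ.filter (· ∈ S)).card * f := by
    rw [pdeg_eq_sum_block hM hB hi, ← smul_eq_mul, ← Finset.sum_const,
      Finset.sum_filter, Finset.sum_filter]
    refine Finset.sum_congr rfl fun χ _ => ?_
    by_cases hχ : χ ∈ B
    · rw [if_pos hχ]
      by_cases hne : dec M χ i = 0
      · rw [if_neg (fun h => h.2 hne : χ ∉ S), hne, zero_mul]
      · rw [if_pos (show χ ∈ S from ⟨hχ, hne⟩), (hval χ ⟨hχ, hne⟩).1, one_mul, hf χ hχ]
    · rw [if_neg hχ, if_neg fun h => hχ h.1]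
  have hint : Integral M (blockElem S) := by
    intro g
    rw [fn_blockElem, blockCoeff_eq_sum]
    obtain ⟨c, hc⟩ := pow_dvd_pdeg hM i
    have hm := isUnitAt_natCast hM (Nat.not_dvd_ordCompl hM.1 (Nat.card_pos (α := G)).ne')
    have hmn := Nat.ordProj_mul_ordCompl_eq_self (Nat.card G) p
    have hf' : ∀ χ ∈ Finset.univ.filter (· ∈ S), (χ : G → ℂ) 1 = (f : ℂ) := fun χ hχ => by
      rw [irr_apply_one_eq_deg, hf χ (Finset.mem_filter.1 hχ).2.1]
    by_cases hg : p ∣ orderOf g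
    · have h0 := sum_dec_mul_eq_zero hM i hg
      have h1 : ∑ χ ∈ Finset.univ.filter (· ∈ S), (χ : G → ℂ) g = 0 := by
        rw [← h0, Finset.sum_filter]
        refine Finset.sum_congr rfl fun χ _ => ?_
        split_ifs with hχ
        · rw [(hval χ hχ).1, Nat.cast_one, one_mul]
        · by_cases hB' : χ ∈ B
          · rw [show dec M χ i = 0 by by_contra h; exact hχ ⟨hB', h⟩, Nat.cast_zero, zero_mul]
          · rw [dec_eq_zero_of_inBlk hM hB hi hB', Nat.cast_zero, zero_mul]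
      rw [Finset.sum_congr rfl fun χ hχ => by rw [hf' χ hχ], ← Finset.mul_sum, ← map_sum, h1]
      simp [zero_mem]
    · rw [Finset.sum_congr rfl fun χ hχ => by
        rw [hf' χ hχ, (hval χ (Finset.mem_filter.1 hχ).2).2 g hg], Finset.sum_const, nsmul_eq_mul]
      have hg' : ¬ p ∣ orderOf g⁻¹ := by rwa [orderOf_inv]
      have hconj : conj (phi p M i g) = phi p M i g⁻¹ := by
        rw [← (hval χ₀ ⟨hχ₀, by rw [hd]; exact one_ne_zero⟩).2 g hg,
          ← (hval χ₀ ⟨hχ₀, by rw [hd]; exact one_ne_zero⟩).2 g⁻¹ hg',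
          IsCharacter.conj_inv (isCharacter_of_irr χ₀.2)]
      have hcast : ((Finset.univ.filter (· ∈ S)).card : ℂ) * (f : ℂ) =
          (p : ℂ) ^ (Nat.card G).factorization p * (c : ℂ) := by
        rw [← Nat.cast_mul, ← hpdeg, hc, Nat.cast_mul, Nat.cast_pow]
      have hN : (Nat.card G : ℂ) = (p : ℂ) ^ (Nat.card G).factorization p *
          ((Nat.card G / p ^ (Nat.card G).factorization p : ℕ) : ℂ) := by
        rw [← Nat.cast_pow, ← Nat.cast_mul, hmn]
      rw [hconj, ← mul_assoc ((Finset.univ.filter (· ∈ S)).card : ℂ), hcast, hN, ← mul_assoc,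
        mul_inv, show ∀ P N C : ℂ, P ≠ 0 → P⁻¹ * N⁻¹ * (P * C) = N⁻¹ * C from fun P N C hP => by
          field_simp]
      · exact mul_mem (mul_mem hm.inv.mem_place (natCast_mem_place _)) (phi_mem_place i _)
      · exact pow_ne_zero _ (Nat.cast_ne_zero.2 hM.1.ne_zero)
  have hsub : B ⊆ S := by
    rw [IsPBlock.eq_blockOf hM hB hχ₀]
    exact blockOf_subset_of_integral hM hint ⟨hχ₀, by rw [hd]; exact one_ne_zero⟩
  refine ⟨i, hi, fun χ hχ => (hval χ (hsub hχ)).1, fun j hj => ?_⟩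
  obtain ⟨χ, hχ⟩ := exists_dec_ne_zero hM j
  have hχB := mem_of_inBlk hM hB hj hχ
  obtain ⟨l, -, -, -, hoffl⟩ := exists_unique_dec hM hB hf hχB
  have h1 : l = i := by
    by_contra h
    exact (hsub hχB).2 (hoffl i (Ne.symm h))
  by_contra hji
  exact hχ (hoffl j (h1 ▸ hji))

theorem blockRank_eq_one (hM : IsPModular p M) (hB : IsPBlock M B) {f : ℕ}
    (hf : ∀ χ ∈ B, deg ((χ : IrrCharacter G) : G → ℂ) = f) : blockRank p B = 1 := by
  obtain ⟨i, hi, -, huniq⟩ := exists_single hM hB hf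
  rw [blockRank_eq_card hM hB, Finset.card_eq_one]
  exact ⟨i, Finset.ext fun j => by
    simp only [Finset.mem_filter, Finset.mem_univ, true_and, Finset.mem_singleton]
    exact ⟨huniq j, fun h => h ▸ hi⟩⟩

/-- **The number of characters.** -/
theorem card_eq_pow_defect (hM : IsPModular p M) (hB : IsPBlock M B) {f : ℕ}
    (hf : ∀ χ ∈ B, deg ((χ : IrrCharacter G) : G → ℂ) = f) :
    Nat.card B = p ^ blockDefect p B := by
  haveI := Fact.mk hM.1
  obtain ⟨φ, d, -, hd, hsum⟩ := exists_of_blockRank_one hM hB (blockRank_eq_one hM hB hf)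
  obtain ⟨χ₀, hχ₀⟩ := IsPBlock.nonempty hM hB
  have h1 : IsPRegular p (1 : G) := by
    show ¬ p ∣ orderOf (1 : G)
    rw [orderOf_one]; exact hM.1.not_dvd_one
  have hφ : φ 1 ≠ 0 := fun h => IsIrrCharacter.apply_one_ne_zero χ₀.2 (by rw [hd χ₀ hχ₀ 1 h1, h, mul_zero])
  have hd0 : d χ₀ ≠ 0 := fun h => IsIrrCharacter.apply_one_ne_zero χ₀.2 (by
    rw [hd χ₀ hχ₀ 1 h1, h, Nat.cast_zero, zero_mul])
  have hconst : ∀ χ ∈ B, d χ = d χ₀ := fun χ hχ => by
    have h := hd χ hχ 1 h1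
    rw [irr_apply_one_eq_deg, hf χ hχ, ← hf χ₀ hχ₀, ← irr_apply_one_eq_deg, hd χ₀ hχ₀ 1 h1] at h
    exact_mod_cast (mul_right_cancel₀ hφ h).symm
  have hcard : (Finset.univ.filter (· ∈ B)).card = Nat.card B := by
    rw [Nat.card_eq_fintype_card, Fintype.card_subtype]
  rw [sum_finsum_eq, Finset.sum_congr rfl fun χ hχ => by rw [hconst χ (Finset.mem_filter.1 hχ).2],
    Finset.sum_const, hcard, smul_eq_mul] at hsum
  set a := (Nat.card G).factorization p
  obtain ⟨j, hj, hjk⟩ := (Nat.dvd_prime_pow hM.1).1 (Dvd.intro _ hsum)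
  refine hjk.trans (congrArg _ ?_)
  -- the valuations
  have hfac := factorization_sum_sq hM hB
  rw [sum_finsum_eq, Finset.sum_congr rfl fun χ hχ => by rw [hf χ (Finset.mem_filter.1 hχ).2],
    Finset.sum_const, hcard, smul_eq_mul, hjk] at hfac
  have hf0 : f ≠ 0 := (hf χ₀ hχ₀ ▸ deg_irr_pos χ₀).ne'
  rw [Nat.factorization_mul (pow_ne_zero _ hM.1.ne_zero) (pow_ne_zero _ hf0), Finsupp.add_apply,
    hM.1.factorization_pow, Finsupp.single_eq_same, Nat.factorization_pow, Finsupp.smul_apply,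
    smul_eq_mul] at hfac
  have hmin : f.factorization p = a - blockDefect p B := by
    have hset : (fun χ : IrrCharacter G => (charDegree (χ : G → ℂ)).factorization p) '' B =
        {f.factorization p} := Set.eq_singleton_iff_unique_mem.2
      ⟨⟨χ₀, hχ₀, by show (deg (χ₀ : G → ℂ)).factorization p = _; rw [hf χ₀ hχ₀]⟩,
        fun x ⟨χ, hχ, hx⟩ => by
          rw [← hx]; show (deg (χ : G → ℂ)).factorization p = _; rw [hf χ hχ]⟩
    obtain ⟨c, hc⟩ := exists_defectClass hM hB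
    have hle : f.factorization p ≤ a := by
      have e := sInf_deg_eq hM hB hc
      rw [hset, csInf_singleton] at e
      rw [e]
      exact (Nat.factorization_le_iff_dvd Subgroup.index_ne_zero_of_finite Nat.card_pos.ne').2
        (Subgroup.index_dvd_card _) p
    rw [blockDefect, hset, csInf_singleton]
    omega
  have : blockDefect p B ≤ a := Nat.sub_le _ _
  omega

end Cfsg.Lib.Blocks.IBr
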