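import Mathlib
import Cfsg.Agent.Blocks.IBr.EqualDegree
import Cfsg.Agent.Blocks.TrivialInertia
import Cfsg.Agent.Blocks.DefectTwo
import Cfsg.Agent.Blocks.CoveringDefect
import Cfsg.Agent.Blocks.AbelianLocal
import Cfsg.Agent.Blocks.Star.Trace

/-!
# Equal degrees force a trivial inertial quotient

The centre of such a block is local with a simple socle, spanned by the reduced product of the
block idempotent with the sum of the `p`-elements. The Brauer map at the defect group does not
kill that socle, so it is injective on the centre, which leaves no room for a nontrivial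
inertial quotient.
-/

set_option autoImplicit false
set_option linter.unusedSectionVars false
set_option linter.style.haveILetI false

namespace Cfsg.Lib.Blocks.IBr

open Module Cfsg.Lib.Chars Cfsg.Lib.Blocks.Star Cfsg.Lib.Blocks.TwoMember
open scoped Classical

universe u

local notation "C⟨" Q "⟩" => Subgroup.centralizer (SetLike.coe Q)

variable {G : Type u} [Group G] [Fintype G] {M : Ideal AlgInt} {p : ℕ} {B : Set (IrrCharacter G)}

lemma mul_mem_zBlock {z z' : MonoidAlgebra (Res M) G} (hz : z ∈ zBlock M B) (hz' : z' ∈ zBlock M B) :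
    z * z' ∈ zBlock M B := by
  rw [mem_zBlock] at hz hz' ⊢
  exact ⟨hz.1.mul hz'.1, by rw [← mul_assoc, hz.2]⟩

lemma red_blk_idem (hM : IsPModular p M) (hB : IsPBlock M B) :
    red M (blockElem B) * red M (blockElem B) = red M (blockElem B) := by
  rw [← red_mul (integral_blockElem hM hB) (integral_blockElem hM hB), blockElem_mul_self]

lemma blk_mem_zBlock (hM : IsPModular p M) (hB : IsPBlock M B) :
    red M (blockElem B) ∈ zBlock M B :=
  mem_zBlock.2 ⟨(isCentralFn_blockElem B).red, red_blk_idem hM hB⟩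

variable {i : Ix M G}

/-- Multiplication by the primitive idempotent is injective on the centre. -/
lemma eq_zero_of_mul_eps_single (hM : IsPModular p M) (hB : IsPBlock M B)
    (huniq : ∀ j, InBlk M B j → j = i) {z : MonoidAlgebra (Res M) G} (hz : z ∈ zBlock M B)
    (h : z * (sys M G).eps i = 0) : z = 0 := by
  rw [mem_zBlock] at hz
  rw [← hz.2, ← hz.1.comm]
  refine eq_zero_of_mul_eps hM hz.1 (red_blk_idem hM hB) fun j hj => ?_
  by_cases hjB : InBlk M B j
  · rw [huniq j hjB]; exact h
  · exact absurd (mu_blk_eq_zero hM hB hjB) hj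

/-- The corner at the primitive idempotent is the image of the centre. -/
lemma exists_central_of_corner (hM : IsPModular p M) (hB : IsPBlock M B) (hi : InBlk M B i)
    (huniq : ∀ j, InBlk M B j → j = i) (hone : ∀ χ ∈ B, dec M χ i = 1)
    (r : MonoidAlgebra (Res M) G) :
    ∃ z ∈ zBlock M B, (sys M G).eps i * (r * (sys M G).eps i) = z * (sys M G).eps i := by
  set e := (sys M G).eps i
  have hee := (sys M G).eps_idem i
  set C := LinearMap.range ((LinearMap.mulLeft (Res M) e).comp (LinearMap.mulRight (Res M) e))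
  let Θ : zBlock M B →ₗ[Res M] C :=
    { toFun := fun z => ⟨(z : MonoidAlgebra (Res M) G) * e, (z : MonoidAlgebra (Res M) G), by
        show e * ((z : MonoidAlgebra (Res M) G) * e) = _
        rw [← mul_assoc, ← (mem_zBlock.1 z.2).1.comm, mul_assoc, hee]⟩
      map_add' := fun a b => Subtype.ext (add_mul (a : MonoidAlgebra (Res M) G) b e)
      map_smul' := fun c a => Subtype.ext (smul_mul_assoc c (a : MonoidAlgebra (Res M) G) e) }
  have hinj : Function.Injective Θ := by
    rw [injective_iff_map_eq_zero]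
    intro z hz
    exact Subtype.ext (eq_zero_of_mul_eps_single hM hB huniq z.2 (congrArg Subtype.val hz))
  have hle : finrank (Res M) C ≤ finrank (Res M) (zBlock M B) := by
    refine (finrank_corner_eps_le hM i).trans (le_of_eq ?_)
    rw [finrank_zBlock hM hB, ← Finset.sum_subset (Finset.subset_univ
      (Finset.univ.filter (· ∈ B))) (fun χ _ hχ => by
        rw [dec_eq_zero_of_inBlk hM hB hi (by simpa using hχ)]; rfl),
      Finset.sum_congr rfl fun χ hχ => by rw [hone χ (Finset.mem_filter.1 hχ).2, one_pow],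
      Finset.sum_const, smul_eq_mul, mul_one, Nat.card_eq_fintype_card, Fintype.card_subtype]
  have hsurj : Function.Surjective Θ :=
    (LinearMap.injective_iff_surjective_of_finrank_eq_finrank
      (le_antisymm (LinearMap.finrank_le_finrank_of_injective hinj) hle)).1 hinj
  obtain ⟨z, hz⟩ := hsurj ⟨e * (r * e), r, rfl⟩
  exact ⟨z, z.2, (congrArg Subtype.val hz).symm⟩

/-- The centre is scalars plus nilpotents. -/
lemma exists_scalar_add_nilpotent (hM : IsPModular p M) (hB : IsPBlock M B) (hi : InBlk M B i)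
    (huniq : ∀ j, InBlk M B j → j = i) {z : MonoidAlgebra (Res M) G} (hz : z ∈ zBlock M B) :
    ∃ c : Res M, IsNilpotent (z - c • red M (blockElem B)) := by
  set e := (sys M G).eps i
  set eb := red M (blockElem B)
  have hee := (sys M G).eps_idem i
  set o := (sys M G).zeroIdx i
  refine ⟨(sys M G).hom z i o o, ?_⟩
  set y := z - (sys M G).hom z i o o • eb with hy
  have hyZ : y ∈ zBlock M B :=
    (zBlock M B).sub_mem hz ((zBlock M B).smul_mem _ (blk_mem_zBlock hM hB))
  have heb : eb * e = e := hi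
  have hye : y * e = e * (z * e) - (sys M G).hom z i o o • e := by
    rw [hy, sub_mul, smul_mul_assoc, heb, ← mul_assoc e, ← (mem_zBlock.1 hz).1.comm e,
      mul_assoc z, hee]
  have hker : (sys M G).hom (y * e) = 0 := by
    funext j
    rw [hye, map_sub, map_mul, map_mul, map_smul, (sys M G).hom_eps]
    by_cases hj : j = i
    · subst hj
      simp only [Pi.sub_apply, Pi.mul_apply, Pi.smul_apply, SimpleSystem.unit, Pi.single_eq_same,
        Pi.zero_apply]
      rw [← mul_assoc, Matrix.single_mul_mul_single, one_mul, mul_one, Matrix.smul_single,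
        smul_eq_mul, mul_one, sub_self]
    · simp [SimpleSystem.unit, Pi.single_eq_of_ne hj]
  obtain ⟨n, hn⟩ := (sys M G).ker_nil _ hker
  refine ⟨n + 1, eq_zero_of_mul_eps_single hM hB huniq ?_ ?_⟩
  · clear hn
    induction n with
    | zero => rw [pow_one]; exact hyZ
    | succ n ih => rw [pow_succ]; exact mul_mem_zBlock ih hyZ
  · have hpow : (y * e) ^ (n + 1) = y ^ (n + 1) * e ^ (n + 1) :=
      Commute.mul_pow ((mem_zBlock.1 hyZ).1.comm e) _
    have he : ∀ m : ℕ, e ^ (m + 1) = e := fun m => by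
      induction m with
      | zero => rw [pow_one]
      | succ m ih => rw [pow_succ, ih, hee]
    show y ^ (n + 1) * e = 0
    rw [← he n, ← hpow, pow_succ, hn, zero_mul]

/-- **The socle of the centre is a line.** -/
theorem socle_line (hM : IsPModular p M) (hB : IsPBlock M B) (hi : InBlk M B i)
    (huniq : ∀ j, InBlk M B j → j = i) (hone : ∀ χ ∈ B, dec M χ i = 1)
    {s : MonoidAlgebra (Res M) G} (hs : s ∈ zBlock M B)
    (hann : ∀ n ∈ zBlock M B, IsNilpotent n → s * n = 0)
    (hτ : fn (s * (sys M G).eps i) 1 = 0) : s = 0 := by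
  set e := (sys M G).eps i
  have hee := (sys M G).eps_idem i
  refine eq_zero_of_mul_eps_single hM hB huniq hs (fn_ext fun g => ?_)
  rw [fn_zero]
  have h : ∀ r, fn (s * e * r) 1 = 0 := by
    intro r
    obtain ⟨z, hz, hze⟩ := exists_central_of_corner hM hB hi huniq hone r
    obtain ⟨c, hc⟩ := exists_scalar_add_nilpotent hM hB hi huniq hz
    have h1 : s * z = c • s := by
      have h2 := hann _ ((zBlock M B).sub_mem hz ((zBlock M B).smul_mem c (blk_mem_zBlock hM hB))) hc
      rw [mul_sub, mul_smul_comm, (mem_zBlock.1 hs).1.comm (red M (blockElem B)),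
        (mem_zBlock.1 hs).2, sub_eq_zero] at h2
      exact h2
    have h3 : fn (s * e * r) 1 = fn (s * (e * (r * e))) 1 := by
      calc fn (s * e * r) 1 = fn (e * (s * e * r)) 1 := by
            rw [← mul_assoc e, ← mul_assoc e s, ← (mem_zBlock.1 hs).1.comm e, mul_assoc s e e, hee]
        _ = fn (s * e * r * e) 1 := fn_mul_one_symm _ _
        _ = _ := by simp only [mul_assoc]
    rw [h3, hze, ← mul_assoc, h1, smul_mul_assoc, fn_smul, hτ, mul_zero]
  have := h (MonoidAlgebra.single g⁻¹ 1)
  rwa [fn_mul_single, inv_inv, one_mul, mul_one] at this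

variable {P : Subgroup G}

/-- The sum of the `p`-elements. -/
noncomputable def pSum (p : ℕ) (M : Ideal AlgInt) (G : Type u) [Group G] [Fintype G] :
    MonoidAlgebra (Res M) G :=
  ofFn fun g => if g ^ p ^ (Nat.card G).factorization p = 1 then 1 else 0

lemma fn_pSum_mul (v : MonoidAlgebra (Res M) G) (g : G) :
    fn (pSum p M G * v) g =
      ∑ u ∈ Finset.univ.filter (fun u : G => u ^ p ^ (Nat.card G).factorization p = 1), fn v (u * g) := by
  rw [fn_mul, Finset.sum_filter]
  refine Fintype.sum_equiv (Equiv.inv G) _ _ fun t => ?_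
  rw [pSum, fn_ofFn, Equiv.inv_apply, inv_pow, inv_eq_one]
  split_ifs <;> simp

lemma isCentralFn_pSum : IsCentralFn (pSum p M G) := fun g h => by
  rw [pSum, fn_ofFn]
  simp only [conj_pow, conj_eq_one_iff]

/-- The socle element. -/
noncomputable def socElem (p : ℕ) (M : Ideal AlgInt) (B : Set (IrrCharacter G)) :
    MonoidAlgebra (Res M) G :=
  pSum p M G * red M (blockElem B)

lemma socElem_mem (hM : IsPModular p M) (hB : IsPBlock M B) : socElem p M B ∈ zBlock M B := by
  refine mem_zBlock.2 ⟨isCentralFn_pSum.mul (isCentralFn_blockElem B).red, ?_⟩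
  rw [socElem, ← mul_assoc, blk_mul_idem hM hB, mul_assoc, red_blk_idem hM hB]

lemma socElem_mul_nilpotent (hM : IsPModular p M) {n : MonoidAlgebra (Res M) G}
    (hn : n ∈ zBlock M B) (hnil : IsNilpotent n) : socElem p M B * n = 0 := by
  rw [socElem, mul_assoc, (mem_zBlock.1 hn).2]
  refine fn_ext fun g => ?_
  rw [fn_pSum_mul, fn_zero]
  have hc : Commute n (MonoidAlgebra.single g⁻¹ (1 : Res M)) := (mem_zBlock.1 hn).1.comm _
  rw [← sum_pElem_eq_zero hM (hc.isNilpotent_mul_right hnil) fun x hx => pow_card_eq_one hM hx]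
  refine Finset.sum_congr rfl fun u _ => ?_
  rw [fn_mul_single, inv_inv, mul_one]

/-- The socle element is nonzero at every regular element where the idempotent is. -/
lemma fn_socElem_ne_zero (hM : IsPModular p M) (hB : IsPBlock M B) {s : G}
    (hs : fn (red M (blockElem B)) s ≠ 0) : fn (socElem p M B) s ≠ 0 := by
  haveI := Fact.mk hM.1
  have hreg : ¬ p ∣ orderOf s := fun h => hs (by
    rw [fn_red, fn_blockElem, blockCoeff_eq_zero_of_singular hM hB h, res_zero])
  obtain ⟨n, hn0, hn⟩ := Cfsg.Lib.Modular.exists_regPart G hM.1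
  set m := n * ((Nat.card G).factorization p + 1)
  have hsm : s ^ p ^ m = s := by
    have h := (hn s).2.1 ((Nat.card G).factorization p + 1)
    rwa [(hn s).2.2 ((hM.1.coprime_iff_not_dvd).2 hreg).symm] at h
  have ham : (Nat.card G).factorization p ≤ m :=
    (Nat.le_succ _).trans (Nat.le_mul_of_pos_left _ (Nat.pos_of_ne_zero hn0))
  have hset : Finset.univ.filter (fun u : G => u ^ p ^ m = 1) =
      Finset.univ.filter (fun u : G => u ^ p ^ (Nat.card G).factorization p = 1) := by
    ext u
    simp only [Finset.mem_filter, Finset.mem_univ, true_and]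
    refine ⟨fun h => pow_card_eq_one hM ?_, fun h => ?_⟩
    · obtain ⟨j, -, hj⟩ := (Nat.dvd_prime_pow hM.1).1 (orderOf_dvd_of_pow_eq_one h)
      exact ⟨j, hj⟩
    · obtain ⟨c, hc⟩ := Nat.exists_eq_add_of_le ham
      rw [hc, pow_add, pow_mul, h, one_pow]
  set v := red M (blockElem B) * MonoidAlgebra.single s⁻¹ (1 : Res M) with hv
  have hpow : v ^ p ^ m = v := by
    have hc : Commute (red M (blockElem B)) (MonoidAlgebra.single s⁻¹ (1 : Res M)) :=
      (isCentralFn_blockElem B).red.comm _
    rw [hv, hc.mul_pow, MonoidAlgebra.single_pow, one_pow, inv_pow, hsm]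
    congr 1
    exact IsIdempotentElem.pow_eq (show IsIdempotentElem (red M (blockElem B)) from red_blk_idem hM hB)
      (pow_ne_zero _ hM.1.ne_zero)
  intro h0
  apply hs
  have h := fn_pow_one hM v m
  rw [hpow, hset, show ∑ u ∈ Finset.univ.filter
    (fun u : G => u ^ p ^ (Nat.card G).factorization p = 1), fn v u = 0 by
      rw [socElem, fn_pSum_mul] at h0
      rw [← h0]
      exact Finset.sum_congr rfl fun u _ => by rw [hv, fn_mul_single, inv_inv, mul_one],
    zero_pow (pow_ne_zero _ hM.1.ne_zero), hv, fn_mul_single, inv_inv, one_mul, mul_one] at h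
  exact h

lemma br_socElem_ne_zero (hM : IsPModular p M) (hB : IsPBlock M B)
    (hD : IsDefectGroup p M B P) : br P (socElem p M B) ≠ 0 := by
  intro h0
  refine br_defectGroup_ne_zero hM hB hD (fn_ext fun g => ?_)
  rw [fn_zero]
  by_cases hg : g ∈ Subgroup.centralizer (P : Set G)
  · rw [br, fn_trunc_mem _ hg]
    by_contra h
    have := congrArg (fun a => fn a g) h0
    simp only [fn_zero] at this
    rw [br, fn_trunc_mem _ hg] at this
    exact fn_socElem_ne_zero hM hB h this
  · rw [suppOn_br P _ g hg]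

variable [Fact p.Prime]

/-- The functions a block of a centralizer allows. -/
noncomputable def localCentre (M : Ideal AlgInt) (P : Subgroup G)
    (c : Set (IrrCharacter C⟨P⟩)) : Submodule (Res M) (MonoidAlgebra (Res M) G) where
  carrier := {v | SuppOn C⟨P⟩ v ∧ InvOn C⟨P⟩ v ∧ bi M C⟨P⟩ c * v = v}
  zero_mem' := ⟨fun _ _ => fn_zero _, fun _ _ _ => by rw [fn_zero, fn_zero], mul_zero _⟩
  add_mem' := fun {a b} ha hb => ⟨fun g hg => by rw [fn_add, ha.1 g hg, hb.1 g hg, add_zero],
    fun h hh g => by rw [fn_add, fn_add, ha.2.1 h hh g, hb.2.1 h hh g],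
    by rw [mul_add, ha.2.2, hb.2.2]⟩
  smul_mem' := fun t a ha => ⟨fun g hg => by rw [fn_smul, ha.1 g hg, mul_zero],
    fun h hh g => by rw [fn_smul, fn_smul, ha.2.1 h hh g],
    by rw [mul_smul_comm, ha.2.2]⟩

lemma finrank_localCentre_le (hM : IsPModular p M) {c : Set (IrrCharacter C⟨P⟩)}
    (hc : IsPBlock M c) : finrank (Res M) (localCentre M P c) ≤ Nat.card c := by
  letI := Fintype.ofFinite C⟨P⟩
  let f : MonoidAlgebra (Res M) G →ₗ[Res M] MonoidAlgebra (Res M) C⟨P⟩ :=
    { toFun := fun v => ofFn fun h => fn v (h : G)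
      map_add' := fun a b => fn_ext fun h => by simp
      map_smul' := fun t a => fn_ext fun h => by simp }
  have hfn : ∀ v (h : C⟨P⟩), fn (f v) h = fn v (h : G) := fun v h => by
    show fn (ofFn fun h : C⟨P⟩ => fn v (h : G)) h = _
    rw [fn_ofFn]
  have hmem : ∀ v ∈ localCentre M P c, f v ∈ zBlock M c := by
    intro v ⟨hs, hi, he⟩
    refine mem_zBlock.2 ⟨fun h x => ?_, fn_ext fun h => ?_⟩
    · rw [hfn, hfn]; exact hi _ x.2 _
    · have hbi : ∀ t : C⟨P⟩, fn (bi M C⟨P⟩ c) (t : G) = fn (red M (blockElem c)) t := fun t => by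
        rw [bi_eq_rx, fn_rx_coe, fn_red]
      conv_rhs => rw [hfn, ← he]
      rw [fn_mul, fn_mul, ← Finset.sum_subset (Finset.subset_univ
        ((Finset.univ : Finset C⟨P⟩).map ⟨Subtype.val, Subtype.val_injective⟩)) (fun t _ ht => by
          rw [suppOn_bi c t fun h' => ht (by simp [h']), zero_mul]), Finset.sum_map]
      refine Finset.sum_congr rfl fun t _ => ?_
      rw [hfn]
      show _ = fn (bi M C⟨P⟩ c) (t : G) * fn v ((t : G)⁻¹ * (h : G))
      rw [hbi, Subgroup.coe_mul, Subgroup.coe_inv]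
  have hinj : Function.Injective (f.restrict hmem) := by
    rw [injective_iff_map_eq_zero]
    intro v hv
    refine Subtype.ext (fn_ext fun g => ?_)
    rw [Submodule.coe_zero, fn_zero]
    by_cases hg : g ∈ C⟨P⟩
    · have := congrArg (fun a : zBlock M c => fn (a : MonoidAlgebra (Res M) C⟨P⟩) ⟨g, hg⟩) hv
      simp only [Submodule.coe_zero, fn_zero, LinearMap.coe_restrict_apply, hfn] at this
      exact this
    · exact v.2.1 g hg
  exact (LinearMap.finrank_le_finrank_of_injective hinj).trans (le_of_eq (finrank_zBlock hM hc))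

/-- **Equal degrees and an abelian defect group force a trivial inertial quotient.** -/
theorem exists_trivial_inertia (hM : IsPModular p M) (hB : IsPBlock M B)
    (hD : IsDefectGroup p M B P) (hab : ∀ a ∈ P, ∀ b ∈ P, a * b = b * a) {f : ℕ}
    (hf : ∀ χ ∈ B, deg ((χ : IrrCharacter G) : G → ℂ) = f) :
    ∃ c : Set (IrrCharacter C⟨P⟩), IsMaximalBrauerPair p M B P c ∧
      ∀ x ∈ Subgroup.normalizer (P : Set G), StabilizesBlock C⟨P⟩ c x → x ∈ C⟨P⟩ := by
  haveI := charP_res hM
  letI := Fintype.ofFinite C⟨P⟩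
  obtain ⟨i, hi, hone, huniq⟩ := exists_single hM hB hf
  have hP : IsPGroup p P := IsDefectGroup.isPGroup hD
  have hcard : Nat.card B = Nat.card P := by
    rw [card_eq_pow_defect hM hB hf, IsDefectGroup.card hM hB hD]
  set w := socElem p M B
  have hwZ := socElem_mem hM hB
  -- choose a block of the centralizer seeing the socle
  obtain ⟨c, hcP, hwc⟩ : ∃ c, IsPBlock M c ∧ br P w * bi M C⟨P⟩ c ≠ 0 := by
    by_contra h
    push Not at h
    apply br_socElem_ne_zero hM hB hD
    rw [← mul_one (br P w), ← sum_bi hM (H := C⟨P⟩), Finset.mul_sum]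
    exact Finset.sum_eq_zero fun c hc => h c ((mem_blocksFinset hM).1 hc)
  set β := bi M C⟨P⟩ c with hβ
  have hinvP : ∀ z : MonoidAlgebra (Res M) G, IsCentralFn z → InvOn P z := fun z hz =>
    (invOn_top_iff.2 hz).mono le_top
  have hebP : InvOn (⊤ : Subgroup G) (red M (blockElem B)) :=
    invOn_top_iff.2 (isCentralFn_blockElem B).red
  have hbrinv : ∀ z : MonoidAlgebra (Res M) G, IsCentralFn z → InvOn C⟨P⟩ (br P z) := fun z hz =>
    invOn_br ((invOn_top_iff.2 hz).mono le_top) fun k hk y hy => by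
      rw [← Subgroup.mem_centralizer_iff.1 hk y hy, mul_inv_cancel_right]; exact hy
  have hcomm : ∀ z : MonoidAlgebra (Res M) G, IsCentralFn z → br P z * β = β * br P z := fun z hz =>
    (hbrinv z hz).comm (suppOn_bi c)
  have hebr : br P (red M (blockElem B)) * β = β := by
    rcases mul_bi_eq_or hM (suppOn_br P _) (hbrinv _ (isCentralFn_blockElem B).red)
      (by rw [← br_mul hP (hinvP _ (isCentralFn_blockElem B).red)
        (hinvP _ (isCentralFn_blockElem B).red), red_blk_idem hM hB]) hcP with h | h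
    · exact h
    · exfalso
      apply hwc
      have e := br_mul hP (hinvP _ (mem_zBlock.1 hwZ).1) (hinvP _ (isCentralFn_blockElem B).red)
      rw [(mem_zBlock.1 hwZ).1.comm (red M (blockElem B)), (mem_zBlock.1 hwZ).2] at e
      rw [e, mul_assoc, h, mul_zero]
  have hpair : IsBrauerPairOf p M B P c :=
    (isBrauerPairOf_iff_br hM B P c).2 ⟨⟨hP, hcP⟩, hB, hebr⟩
  refine ⟨c, isMaximal_of_isDefectGroup hM hpair hD, fun x hxN hxs => ?_⟩
  have hfix : cj x β = β := (stabilizes_iff_of_normalizer hM hcP hxN).1 hxs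
  have hPmap : P.map (MulAut.conj x).toMonoidHom = P := by
    ext y
    constructor
    · rintro ⟨z, hz, rfl⟩
      exact (Subgroup.mem_normalizer_iff.1 hxN z).1 hz
    · intro hy
      refine ⟨x⁻¹ * y * x, ?_, by simp [mul_assoc]⟩
      have := (Subgroup.mem_normalizer_iff.1 (inv_mem hxN) y).1 hy
      simpa using this
  -- injectivity of the Brauer map
  have hmul : ∀ a b, a ∈ zBlock M B → b ∈ zBlock M B →
      br P (a * b) * β = (br P a * β) * (br P b * β) := fun a b ha hb => by
    rw [br_mul hP (hinvP _ (mem_zBlock.1 ha).1) (hinvP _ (mem_zBlock.1 hb).1),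
      mul_assoc (br P a) β, ← mul_assoc β, ← hcomm b (mem_zBlock.1 hb).1, mul_assoc (br P b),
      bi_mul_self hM hcP, mul_assoc]
  have hinj : ∀ z ∈ zBlock M B, br P z * β = 0 → z = 0 := by
    by_contra hne
    push Not at hne
    obtain ⟨z, hzZ, hz0, hzne⟩ := hne
    let S : Set (MonoidAlgebra (Res M) G) := {y | y ∈ zBlock M B ∧ br P y * β = 0 ∧ y ≠ 0}
    let N : MonoidAlgebra (Res M) G → ℕ := fun y =>
      finrank (Res M) ((zBlock M B).map (LinearMap.mulLeft (Res M) y))
    obtain ⟨m, ⟨y, hy, rfl⟩, hmin⟩ :=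
      Nat.lt_wfRel.wf.has_min (N '' S) ⟨N z, z, ⟨hzZ, hz0, hzne⟩, rfl⟩
    obtain ⟨hyZ, hy0, hyne⟩ := hy
    have hann : ∀ n ∈ zBlock M B, IsNilpotent n → y * n = 0 := by
      intro n hn hnil
      by_contra hyn
      have hmemS : y * n ∈ S := ⟨mul_mem_zBlock hyZ hn,
        by rw [hmul y n hyZ hn, hy0, zero_mul], hyn⟩
      refine hmin (N (y * n)) ⟨y * n, hmemS, rfl⟩ ?_
      refine Submodule.finrank_lt_finrank_of_lt (lt_of_le_of_ne ?_ fun heq => ?_)
      · rintro _ ⟨a, ha, rfl⟩
        exact ⟨n * a, mul_mem_zBlock hn ha, (mul_assoc y n a).symm⟩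
      · have hyy : y ∈ (zBlock M B).map (LinearMap.mulLeft (Res M) y) :=
          ⟨_, blk_mem_zBlock hM hB, by
            show y * red M (blockElem B) = y
            rw [(mem_zBlock.1 hyZ).1.comm, (mem_zBlock.1 hyZ).2]⟩
        rw [← heq] at hyy
        obtain ⟨a, ha, hya⟩ := hyy
        change y * n * a = y at hya
        obtain ⟨j, hj⟩ := Commute.isNilpotent_mul_right ((mem_zBlock.1 hn).1.comm a) hnil
        have : ∀ j : ℕ, y * (n * a) ^ j = y := fun j => by
          induction j with
          | zero => rw [pow_zero, mul_one]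
          | succ j ih => rw [pow_succ', ← mul_assoc y, ← mul_assoc y n a, hya, ih]
        exact hyne (by rw [← this j, hj, mul_zero])
    have hwann : ∀ n ∈ zBlock M B, IsNilpotent n → w * n = 0 :=
      fun n hn hnil => socElem_mul_nilpotent hM hn hnil
    set a := fn (w * (sys M G).eps i) 1
    set b := fn (y * (sys M G).eps i) 1
    have ha : a ≠ 0 := fun h0 => hwc (by
      rw [show w = 0 from socle_line hM hB hi huniq hone hwZ hwann h0, br_zero, zero_mul])
    have hs : a • y - b • w = 0 := by
      refine socle_line hM hB hi huniq hone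
        ((zBlock M B).sub_mem ((zBlock M B).smul_mem _ hyZ) ((zBlock M B).smul_mem _ hwZ))
        (fun n hn hnil => by
          rw [sub_mul, smul_mul_assoc, smul_mul_assoc, hann n hn hnil, hwann n hn hnil, smul_zero,
            smul_zero, sub_zero]) ?_
      rw [sub_mul, smul_mul_assoc, smul_mul_assoc, fn_sub, fn_smul, fn_smul]
      ring
    have hyw : y = (a⁻¹ * b) • w := by
      rw [sub_eq_zero] at hs
      rw [← smul_smul, ← hs, smul_smul, inv_mul_cancel₀ ha, one_smul]
    rw [hyw, br_smul' P, smul_mul_assoc, smul_eq_zero] at hy0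
    rcases hy0 with h | h
    · exact hyne (by rw [hyw, h, zero_smul])
    · exact hwc h
  -- the image is fixed by `x`
  let φ : MonoidAlgebra (Res M) G →ₗ[Res M] MonoidAlgebra (Res M) G :=
    { toFun := fun z => br P z * β
      map_add' := fun a b => by rw [br_add', add_mul]
      map_smul' := fun t a => by rw [br_smul', smul_mul_assoc, RingHom.id_apply] }
  let cjx : MonoidAlgebra (Res M) G →ₗ[Res M] MonoidAlgebra (Res M) G :=
    { toFun := cj x
      map_add' := cj_add' x
      map_smul' := cj_smul' x }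
  set V : Submodule (Res M) (MonoidAlgebra (Res M) G) :=
    localCentre M P c ⊓ LinearMap.ker (cjx - LinearMap.id) with hV
  have hφ : ∀ z ∈ zBlock M B, φ z ∈ V := by
    intro z hz
    have hzc := (mem_zBlock.1 hz).1
    refine ⟨⟨(suppOn_br P z).mul (suppOn_bi c), (hbrinv z hzc).mul (invOn_bi c), ?_⟩, ?_⟩
    · show β * (br P z * β) = br P z * β
      rw [← mul_assoc, ← hcomm z hzc, mul_assoc, bi_mul_self hM hcP]
    · rw [SetLike.mem_coe, LinearMap.mem_ker, LinearMap.sub_apply, sub_eq_zero]
      show cj x (br P z * β) = br P z * β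
      rw [cj_mul, cj_br, hPmap, invOn_iff.1 (invOn_top_iff.2 hzc) x (Subgroup.mem_top x), hfix]
  have hdim1 : finrank (Res M) (zBlock M B) ≤ finrank (Res M) V := by
    refine LinearMap.finrank_le_finrank_of_injective (f := φ.restrict hφ) ?_
    rw [injective_iff_map_eq_zero]
    intro z hz
    exact Subtype.ext (hinj z z.2 (congrArg Subtype.val hz))
  -- the local centre has dimension at most `|P|`
  have hnorm : IsNormalSubpair p M P c P c :=
    (isNormalSubpair_iff hM _ _ _ _).2 ⟨⟨hP, hcP⟩, ⟨hP, hcP⟩, le_rfl, Subgroup.le_normalizer,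
      fun y hy => invOn_iff.1 (invOn_bi c) y (Subgroup.mem_centralizer_iff.2 fun q hq => hab q hq y hy),
      by rw [br_bi_centralizer, bi_mul_self hM hcP]⟩
  obtain ⟨T, hT⟩ : ∃ T : Subgroup G, IsPairStab P c T := ⟨_, (isPairStab_iff hM hcP).2 rfl⟩
  have hl := blockRank_local_eq_one hM hD hpair hab hT le_rfl hnorm fun t _ ht => ht
  have hdef := (defect_of_normalSubpair hM hD hpair hab le_rfl hnorm).1
  have hck : Nat.card c ≤ Nat.card P := by
    obtain ⟨ψ, d, -, hd, hsum⟩ := exists_of_blockRank_one hM hcP hl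
    have h1 := IsDefectGroup.card hM hcP hdef
    rw [Nat.card_congr (Subgroup.subgroupOfEquivOfLe
      (le_centralizer_sub hab (le_refl P))).toEquiv] at h1
    rw [h1, ← hsum, sum_finsum_eq, Nat.card_eq_fintype_card, Fintype.card_subtype,
      Finset.card_eq_sum_ones]
    refine Finset.sum_le_sum fun χ hχ => Nat.one_le_pow _ _ (Nat.pos_of_ne_zero fun h => ?_)
    refine IsIrrCharacter.apply_one_ne_zero χ.2 ?_
    rw [hd χ (Finset.mem_filter.1 hχ).2 1 (by
      show ¬ p ∣ orderOf (1 : C⟨P⟩); rw [orderOf_one]; exact hM.1.not_dvd_one), h, Nat.cast_zero,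
      zero_mul]
  -- an element moved by `x`
  by_contra hxC
  obtain ⟨d, hd, hdx⟩ : ∃ d ∈ P, x * d * x⁻¹ ≠ d := by
    by_contra h
    push Not at h
    exact hxC (Subgroup.mem_centralizer_iff.2 fun d hd => (mul_inv_eq_iff_eq_mul.1 (h d hd)).symm)
  have hdC : d ∈ C⟨P⟩ := le_centralizer_sub hab (le_refl P) hd
  set v : MonoidAlgebra (Res M) G := MonoidAlgebra.single d 1 * β with hv
  have hsupp : SuppOn C⟨P⟩ (MonoidAlgebra.single d (1 : Res M)) := fun g hg => by
    rw [fn_single, if_neg fun h : d = g => hg (h ▸ hdC)]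
  have hinvd : InvOn C⟨P⟩ (MonoidAlgebra.single d (1 : Res M)) := fun k hk g => by
    rw [fn_single, fn_single]
    have hkd : k * d * k⁻¹ = d := by
      rw [← Subgroup.mem_centralizer_iff.1 hk d hd, mul_inv_cancel_right]
    by_cases h : d = g
    · rw [if_pos h, if_pos (by rw [← h, hkd])]
    · rw [if_neg h, if_neg fun e => h ?_]
      have h' : k * g * k⁻¹ = k * d * k⁻¹ := e.symm.trans hkd.symm
      exact (mul_left_cancel (mul_right_cancel h')).symm
  have hvmem : v ∈ localCentre M P c := ⟨hsupp.mul (suppOn_bi c), hinvd.mul (invOn_bi c), by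
    rw [hv, ← mul_assoc, ← hinvd.comm (suppOn_bi c), mul_assoc, bi_mul_self hM hcP]⟩
  have hvV : v ∉ V := by
    intro h
    have h1 : cj x v = v := by
      have := h.2
      rw [SetLike.mem_coe, LinearMap.mem_ker, LinearMap.sub_apply, sub_eq_zero] at this
      exact this
    rw [hv, cj_mul, hfix, show cj x (MonoidAlgebra.single d (1 : Res M)) =
      MonoidAlgebra.single (x * d * x⁻¹) 1 from fn_ext fun g => by
        rw [fn_cj, fn_single, fn_single]
        by_cases hg : x * d * x⁻¹ = g
        · rw [if_pos hg, if_pos (by rw [← hg]; group)]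
        · rw [if_neg hg, if_neg fun e => hg (by rw [e]; group)]] at h1
    obtain ⟨g, hg⟩ : ∃ g, fn β g ≠ 0 := by
      by_contra h0
      push Not at h0
      exact bi_ne_zero hM hcP (fn_ext fun g => by rw [h0 g, fn_zero])
    have hgC : g ∈ C⟨P⟩ := by by_contra h0; exact hg (suppOn_bi c g h0)
    set u := d⁻¹ * (x * d * x⁻¹)
    have huP : u ∈ P := P.mul_mem (P.inv_mem hd) ((Subgroup.mem_normalizer_iff.1 hxN d).1 hd)
    have hu1 : u ≠ 1 := fun e => hdx (inv_mul_eq_one.1 e).symm
    have h2 : fn β g = fn β (u * g) := by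
      have h3 := congrArg (fun a => fn a ((x * d * x⁻¹) * g)) h1
      simp only [fn_single_mul, one_mul, inv_mul_cancel_left] at h3
      rw [h3, ← mul_assoc d⁻¹]
    have hregular : ∀ t, fn β t ≠ 0 → ¬ p ∣ orderOf t := fun t ht hdiv => by
      have htC : t ∈ C⟨P⟩ := by by_contra h0; exact ht (suppOn_bi c t h0)
      apply ht
      rw [hβ, show t = ((⟨t, htC⟩ : C⟨P⟩) : G) from rfl, bi_eq_rx, fn_rx_coe, fn_blockElem,
        blockCoeff_eq_zero_of_singular hM hcP (by rwa [← Subgroup.orderOf_coe]), res_zero]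
    have hg' := hregular g hg
    obtain ⟨j, hj⟩ := IsPGroup.iff_orderOf.1 hP ⟨u, huP⟩
    rw [Subgroup.orderOf_mk] at hj
    refine hregular (u * g) (h2 ▸ hg) ?_
    have hcm : Commute u g := Subgroup.mem_centralizer_iff.1 hgC u huP
    rw [hcm.orderOf_mul_eq_mul_orderOf_of_coprime (hj ▸
      (hM.1.coprime_iff_not_dvd.2 hg').pow_left j), hj]
    refine Dvd.dvd.mul_right (dvd_pow_self p ?_) _
    rintro rfl
    rw [pow_zero, orderOf_eq_one_iff] at hj
    exact hu1 hj
  have hlt : finrank (Res M) V < finrank (Res M) (localCentre M P c) :=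
    Submodule.finrank_lt_finrank_of_lt (lt_of_le_of_ne inf_le_left fun h =>
      hvV (h.symm ▸ hvmem : v ∈ V))
  have hlc := finrank_localCentre_le (P := P) hM hcP
  rw [finrank_zBlock hM hB, hcard] at hdim1
  omega

end Cfsg.Lib.Blocks.IBr
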