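import Mathlib
import Cfsg.Agent.Blocks.IBr.Lift
import Cfsg.Agent.Blocks.Star.Primitive
import Cfsg.Agent.Blocks.Star.NilpotentInner
import Cfsg.Agent.Blocks.RealTwo2

/-!
# Characters fixed by a Galois twist of exponent congruent to one away from `p`

The values of the characters on a `p`-section are combinations of the modular characters of the
centralizer; each modular character of the centralizer belongs to a single block. Orthogonality then
shows that the trace of a Galois twist on a block is at least the regular rank of the block.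
-/

set_option autoImplicit false
set_option linter.unusedSectionVars false
set_option linter.unusedSimpArgs false
set_option linter.style.haveILetI false

namespace Cfsg.Lib.Blocks.IBr

open Cfsg.Lib.Chars Cfsg.Lib.Blocks.Star Cfsg.Lib.Blocks.TwoMember Polynomial
open scoped ComplexConjugate Classical

universe u

local notation "C⟨" P "⟩" => Subgroup.centralizer (SetLike.coe P)

variable {G : Type u} [Group G] [Fintype G] {M : Ideal AlgInt} {p : ℕ}

/-- The inclusion of the group algebra of a centralizer. -/
noncomputable def upC (R : Type*) [CommRing R] (y : G) :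
    MonoidAlgebra R C⟨Subgroup.zpowers y⟩ →ₐ[R] MonoidAlgebra R G :=
  MonoidAlgebra.mapDomainAlgHom R R C⟨Subgroup.zpowers y⟩.subtype

lemma upC_single {R : Type*} [CommRing R] (y : G) (c : C⟨Subgroup.zpowers y⟩) (r : R) :
    upC R y (MonoidAlgebra.single c r) = MonoidAlgebra.single (c : G) r := by
  simp [upC]

lemma self_mem_centralizer (y : G) : y ∈ C⟨Subgroup.zpowers y⟩ := by
  rw [centralizer_zpowers, Subgroup.mem_centralizer_singleton_iff]

lemma commute_of_mem_centralizer {y c : G} (hc : c ∈ C⟨Subgroup.zpowers y⟩) : Commute y c := by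
  rw [centralizer_zpowers, Subgroup.mem_centralizer_singleton_iff] at hc
  exact hc.symm

lemma commute_upC {R : Type*} [CommRing R] (y : G) (a : MonoidAlgebra R C⟨Subgroup.zpowers y⟩) :
    Commute (sE y) (upC R y a) := by
  have h : Commute (sE (⟨y, self_mem_centralizer y⟩ : C⟨Subgroup.zpowers y⟩)) a :=
    (commute_sE_iff _ a).2 fun g => by
      congr 1
      exact Subtype.ext (by
        simp [(commute_of_mem_centralizer g.2).eq])
  have h' := h.map (upC R y)
  rwa [upC_single] at h'

lemma upC_injective {R : Type*} [CommRing R] (y : G) : Function.Injective (upC R y) :=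
  MonoidAlgebra.mapDomain_injective C⟨Subgroup.zpowers y⟩.subtype_injective

lemma fn_upC_eq_zero {R : Type*} [CommRing R] (y : G) (a : MonoidAlgebra R C⟨Subgroup.zpowers y⟩)
    {g : G} (hg : g ∉ C⟨Subgroup.zpowers y⟩) : fn (upC R y a) g = 0 := by
  rw [eq_sum_single a, map_sum, fn_sum]
  refine Finset.sum_eq_zero fun c _ => ?_
  rw [upC_single, fn_single, if_neg fun h : (c : G) = g => hg (h ▸ c.2)]

lemma invOn_upC {R : Type*} [CommRing R] (y : G) (a : MonoidAlgebra R C⟨Subgroup.zpowers y⟩) :
    InvOn (Subgroup.zpowers y) (upC R y a) :=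
  invOn_zpowers_iff.2 (commute_upC y a)

/-- The generalized decomposition number. -/
noncomputable def gdec (M : Ideal AlgInt) (χ : IrrCharacter G) (y : G)
    (j : Ix M C⟨Subgroup.zpowers y⟩) : ℂ :=
  th M χ y (upC (Res M) y ((sys M C⟨Subgroup.zpowers y⟩).eps j))

/-- The values of a character on a section. -/
theorem apply_eq_sum_gdec (hM : IsPModular p M) (χ : IrrCharacter G) (y : G)
    {s : C⟨Subgroup.zpowers y⟩} (hs : ¬ p ∣ orderOf s) :
    (χ : G → ℂ) (y * (s : G)) = ∑ j, gdec M χ y j * phi p M j s := by
  have hys := commute_of_mem_centralizer s.2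
  have ho : orderOf (s : G) = orderOf s := Subgroup.orderOf_coe s
  have hsG : ¬ p ∣ orderOf (s : G) := ho.symm ▸ hs
  have hce : ∀ l : ℂ, Commute (sE y) (eigC (s : G) l) := fun l => by
    show _ * _ = _ * _
    rw [eigC, mul_smul_comm, smul_mul_assoc, Finset.mul_sum, Finset.sum_mul]
    congr 1
    exact Finset.sum_congr rfl fun j _ => by
      rw [MonoidAlgebra.single_mul_single, MonoidAlgebra.single_mul_single, (hys.pow_right j).eq,
        mul_comm]
  calc (χ : G → ℂ) (y * (s : G))
      = chiEval (χ : G → ℂ) (sE y * MonoidAlgebra.single (s : G) 1) := by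
        rw [MonoidAlgebra.single_mul_single, chiEval_single, one_mul, one_mul]
    _ = ∑ l ∈ nthRootsFinset (orderOf (s : G)) (1 : ℂ),
          l * th M χ y (red M (eigC (s : G) l)) := by
        rw [← sum_smul_eigC, Finset.mul_sum, chiEval_sum]
        refine Finset.sum_congr rfl fun l hl => ?_
        rw [mul_smul_comm, chiEval_smul, th_eq χ (eigC_integral hM hsG (mem_roots hl))
          (eigC_idem _ (mem_roots hl)) (hce l)]
    _ = _ := by
        simp only [phi_regular _ hs, Finset.mul_sum]
        rw [Finset.sum_comm, ho]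
        refine Finset.sum_congr rfl fun l hl => ?_
        have hl' := mem_roots hl
        have hmap : upC (Res M) y (red M (eigC s l)) = red M (eigC (s : G) l) := by
          rw [red_eigC hM hs hl', red_eigC hM hsG (ho.symm ▸ hl'), map_sum, ho]
          exact Finset.sum_congr rfl fun j _ => by rw [upC_single, Subgroup.coe_pow]
        have hadd := (sys M C⟨Subgroup.zpowers y⟩).additive_eq_sum (fun a => th M χ y (upC (Res M) y a))
          (by rw [map_zero, th_zero])
          (fun e e' he he' h0 h0' => by
            rw [map_add]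
            exact th_add χ (by rw [← map_mul, he]) (by rw [← map_mul, he'])
              (by rw [← map_mul, h0, map_zero]) (by rw [← map_mul, h0', map_zero])
              (commute_upC y _) (commute_upC y _))
          (fun e e' he he' h0 => by
            obtain ⟨a, b, h1, h2⟩ := h0
            exact th_equiv χ (by rw [← map_mul, he]) (by rw [← map_mul, he']) (commute_upC y _)
              (commute_upC y _) (commute_upC y a) (commute_upC y b) (by rw [← map_mul, h1])
              (by rw [← map_mul, h2]))
          (red_eigC_idem hM hs hl')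
        rw [← hmap, hadd, Finset.mul_sum]
        refine Finset.sum_congr rfl fun j _ => ?_
        rw [nsmul_eq_mul, gdec]
        ring

/-- **Each modular character of a centralizer belongs to a single block.** -/
theorem gdec_dichotomy [Fact p.Prime] (hM : IsPModular p M) {B : Set (IrrCharacter G)}
    (hB : IsPBlock M B) {y : G} (hy : IsPElem p y) (j : Ix M C⟨Subgroup.zpowers y⟩) :
    (∀ χ, χ ∈ B → gdec M χ y j = 0) ∨ (∀ χ, χ ∉ B → gdec M χ y j = 0) := by
  haveI := charP_res hM
  let S := sys M C⟨Subgroup.zpowers y⟩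
  set e := red M (blockElem B) with he
  have hE := integral_blockElem hM hB
  have hec : IsCentralFn e := (isCentralFn_blockElem B).red
  have hei : InvOn (Subgroup.zpowers y) e := invOn_zpowers_iff.2 (hec.comm _).symm
  have hee : e * e = e := by rw [he, ← red_mul hE hE, blockElem_mul_self]
  set a := br (Subgroup.zpowers y) e
  set a₀ : MonoidAlgebra (Res M) C⟨Subgroup.zpowers y⟩ := ∑ c, MonoidAlgebra.single c (fn a (c : G))
  have ha₀ : upC (Res M) y a₀ = a := by
    refine fn_ext fun g => ?_
    rw [map_sum, fn_sum]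
    by_cases hg : g ∈ C⟨Subgroup.zpowers y⟩
    · rw [Finset.sum_eq_single ⟨g, hg⟩]
      · simp [upC_single, fn_single]
      · intro c _ hc
        rw [upC_single, fn_single, if_neg fun h => hc (Subtype.ext h)]
      · simp
    · rw [show fn a g = 0 from suppOn_br (Subgroup.zpowers y) e g hg]
      refine Finset.sum_eq_zero fun c _ => ?_
      rw [upC_single, fn_single, if_neg fun h : (c : G) = g => hg (h ▸ c.2)]
  have ha₀c : IsCentralFn a₀ := by
    intro g h
    have hfn : ∀ c : C⟨Subgroup.zpowers y⟩, fn a₀ c = fn e (c : G) := fun c => by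
      rw [fn_sum, Finset.sum_eq_single c]
      · rw [fn_single, if_pos rfl, show a = br (Subgroup.zpowers y) e from rfl, br, fn_trunc_mem _ c.2]
      · intro d _ hd; rw [fn_single, if_neg hd]
      · simp
    rw [hfn, hfn, Subgroup.coe_mul, Subgroup.coe_mul, Subgroup.coe_inv, hec]
  have ha₀i : a₀ * a₀ = a₀ := upC_injective y (by
    rw [map_mul, ha₀]; exact br_idem hM hy.isPGroup hei hee)
  let ε := S.eps j
  set f := upC (Res M) y ε with hf
  have hεε : ε * ε = ε := S.eps_idem j
  have hff : f * f = f := by rw [hf, ← map_mul, hεε]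
  have hfi : InvOn (Subgroup.zpowers y) f := invOn_upC y ε
  have hfbr : br (Subgroup.zpowers y) f = f := trunc_eq_self fun g hg => fn_upC_eq_zero y ε hg
  have hbef : br (Subgroup.zpowers y) (e * f) = upC (Res M) y (a₀ * ε) := by
    rw [br_mul hy.isPGroup hei hfi, hfbr, map_mul, ha₀]
  set x := a₀ * ε with hx
  have hxε : x * ε = x := by rw [hx, mul_assoc, hεε]
  have hεx : ε * x = x := by rw [hx, ← mul_assoc, ← ha₀c.comm ε, mul_assoc, hεε]
  have hxx : x * x = x := by
    conv_lhs => arg 1; rw [hx]
    rw [mul_assoc, hεx, hx, ← mul_assoc, ha₀i]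
  have hd : (ε - x) * (ε - x) = ε - x := by
    rw [sub_mul, mul_sub, mul_sub, hεε, hεx, hxε, hxx]; abel
  have hmu : ∀ i, S.mu i x + S.mu i (ε - x) = if i = j then 1 else 0 := fun i => by
    rw [← SimpleSystem.mu_add _ hxx hd (by rw [mul_sub, hxε, hxx, sub_self])
      (by rw [sub_mul, hεx, hxx, sub_self]), add_sub_cancel]
    exact S.mu_eps j i
  have hzero : ∀ b : MonoidAlgebra (Res M) C⟨Subgroup.zpowers y⟩, b * b = b → (∀ i, S.mu i b = 0) → b = 0 :=
    fun b hb h' => S.eq_zero_of_hom hb (funext fun i => rank_eq_zero_iff'.1 (h' i))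
  rcases Nat.eq_zero_or_pos (S.mu j x) with h0 | h0
  · have hx0 : x = 0 := hzero x hxx fun i => by
      by_cases hi : i = j
      · subst hi; exact h0
      · have := hmu i; rw [if_neg hi] at this; omega
    left
    intro χ hχ
    obtain ⟨F, h1, h2, h3, h4⟩ := exists_lift_r (r := y) hff (commute_upC y ε)
    have hcE : Commute (sE y) (blockElem B) := ((isCentralFn_blockElem B).comm _).symm
    have hFF : blockElem B * F * (blockElem B * F) = blockElem B * F := by
      rw [mul_assoc, ← mul_assoc F, ← (isCentralFn_blockElem B).comm F, mul_assoc, h2, ← mul_assoc,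
        blockElem_mul_self]
    have hred : red M (blockElem B * F) = e * f := by rw [red_mul hE h1, h3]
    have heff : e * f * (e * f) = e * f := by rw [← hred, ← red_mul (hE.mul h1) (hE.mul h1), hFF]
    have hev : th M χ y f = th M χ y (e * f) := by
      rw [← h3, th_eq χ h1 h2 h4, h3, ← hred, th_eq χ (hE.mul h1) hFF (hcE.mul_right h4),
        ← mul_assoc, hcE.eq, mul_assoc, chiEval_blockElem_mul, if_pos hχ]
    show th M χ y f = 0
    rw [hev]
    exact th_eq_zero hM χ hy heff ((invOn_zpowers_iff.1 hei).mul_right (commute_upC y ε))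
      (by rw [hbef, hx0, map_zero])
  · have hx1 : ε - x = 0 := hzero _ hd fun i => by
      have := hmu i
      by_cases hi : i = j
      · subst hi; rw [if_pos rfl] at this; omega
      · rw [if_neg hi] at this; omega
    right
    intro χ hχ
    obtain ⟨F, h1, h2, h3, h4⟩ := exists_lift_r (r := y) hff (commute_upC y ε)
    have hcE : Commute (sE y) (blockElem B) := ((isCentralFn_blockElem B).comm _).symm
    set K := blockElem B * F with hK
    have hFK : F * K = K := by
      rw [hK, ← mul_assoc, ← (isCentralFn_blockElem B).comm F, mul_assoc, h2]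
    have hKF : K * F = K := by rw [hK, mul_assoc, h2]
    have hKK : K * K = K := by
      conv_lhs => arg 1; rw [hK]
      rw [mul_assoc, hFK, hK, ← mul_assoc, blockElem_mul_self]
    have hFF : (F - K) * (F - K) = F - K := by
      rw [sub_mul, mul_sub, mul_sub, h2, hFK, hKF, hKK]; abel
    have hred : red M (F - K) = f - e * f := by rw [red_sub h1 (hE.mul h1), red_mul hE h1, h3]
    have hev : th M χ y f = th M χ y (f - e * f) := by
      rw [← h3, th_eq χ h1 h2 h4, h3, ← hred,
        th_eq χ (h1.sub (hE.mul h1)) hFF (h4.sub_right (hcE.mul_right h4)), mul_sub, chiEval_sub,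
        ← mul_assoc (sE y), hcE.eq, mul_assoc, chiEval_blockElem_mul, if_neg hχ, sub_zero]
    have hidem : (f - e * f) * (f - e * f) = f - e * f := by
      rw [← hred, ← red_mul (h1.sub (hE.mul h1)) (h1.sub (hE.mul h1)), hFF]
    have hcomm : Commute (sE y) (f - e * f) :=
      (commute_upC y ε).sub_right ((invOn_zpowers_iff.1 hei).mul_right (commute_upC y ε))
    show th M χ y f = 0
    rw [hev]
    refine th_eq_zero hM χ hy hidem hcomm ?_
    have h5 := br_add' (Subgroup.zpowers y) (f - e * f) (e * f)
    rw [sub_add_cancel, hfbr, hbef, ← sub_eq_zero.1 hx1] at h5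
    exact right_eq_add.1 h5

/-- Second orthogonality on a section. -/
theorem card_conj_eq [Fact p.Prime] (hM : IsPModular p M) {y : G} (hy : IsPElem p y)
    {s' s : C⟨Subgroup.zpowers y⟩}
    (hs' : s' ∈ Finset.univ.filter (fun s : C⟨Subgroup.zpowers y⟩ => ¬ p ∣ orderOf s))
    (hs : s ∈ Finset.univ.filter (fun s : C⟨Subgroup.zpowers y⟩ => ¬ p ∣ orderOf s)) :
    ∑ χ : IrrCharacter G, (χ : G → ℂ) (y * (s' : G)) * conj ((χ : G → ℂ) (y * (s : G))) =
      ∑ a : C⟨Subgroup.zpowers y⟩, if a * s' * a⁻¹ = s then (1 : ℂ) else 0 := by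
  rw [second_orthogonality]
  have hpp : ∀ t : C⟨Subgroup.zpowers y⟩, ¬ p ∣ orderOf t → IsPPart p (y * (t : G)) y := fun t ht =>
    isPPart_mul (commute_of_mem_centralizer t.2) hy (by rwa [Subgroup.orderOf_coe])
  have h1 := hpp s' (Finset.mem_filter.1 hs').2
  have h2 := hpp s (Finset.mem_filter.1 hs).2
  have hmem : ∀ x : G, x * (y * (s' : G)) * x⁻¹ = y * (s : G) →
      x ∈ C⟨Subgroup.zpowers y⟩ ∧ x * (s' : G) * x⁻¹ = (s : G) := fun x hx => by
    have h := IsPPart.eq hM.1 (by simpa only [hx] using IsPPart.conj h1 x) h2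
    refine ⟨?_, mul_left_cancel (a := y) ?_⟩
    · rw [centralizer_zpowers, Subgroup.mem_centralizer_singleton_iff]
      conv_rhs => arg 1; rw [← h]
      group
    · calc y * (x * (s' : G) * x⁻¹) = (x * y * x⁻¹) * (x * (s' : G) * x⁻¹) := by rw [h]
        _ = x * (y * (s' : G)) * x⁻¹ := by group
        _ = _ := hx
  rw [Finset.sum_boole]
  by_cases hc : IsConj (y * (s' : G)) (y * (s : G))
  · rw [if_pos hc]
    obtain ⟨x, hx⟩ := isConj_iff.1 hc
    obtain ⟨hxC, hxs⟩ := hmem x hx
    rw [Nat.card_eq_fintype_card, ← Finset.card_univ]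
    congr 1
    symm
    refine Finset.card_bij (fun a ha => (⟨x⁻¹ * (a : G), ?_⟩ :
      Subgroup.centralizer ({y * (s' : G)} : Set G))) (fun a ha => Finset.mem_univ _) ?_ ?_
    · have ha' := congrArg Subtype.val (Finset.mem_filter.1 ha).2
      simp only [Subgroup.coe_mul, Subgroup.coe_inv] at ha'
      have h3 : (a : G) * (y * (s' : G)) * (a : G)⁻¹ = y * (s : G) := by
        rw [← ha', ← mul_assoc (a : G), ← (commute_of_mem_centralizer a.2).eq]
        group
      rw [Subgroup.mem_centralizer_singleton_iff]
      rw [← hx] at h3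
      calc x⁻¹ * (a : G) * (y * (s' : G))
          = x⁻¹ * ((a : G) * (y * (s' : G)) * (a : G)⁻¹) * (a : G) := by group
        _ = (y * (s' : G)) * (x⁻¹ * (a : G)) := by rw [h3]; group
    · intro a _ b _ h
      exact Subtype.ext (mul_left_cancel (congrArg Subtype.val h))
    · intro b _
      have hb := Subgroup.mem_centralizer_singleton_iff.1 b.2
      have h3 : x * (b : G) * (y * (s' : G)) * (x * (b : G))⁻¹ = y * (s : G) := by
        rw [mul_assoc x (b : G), hb, ← hx]
        group
      obtain ⟨h4, h5⟩ := hmem _ h3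
      exact ⟨⟨_, h4⟩, Finset.mem_filter.2 ⟨Finset.mem_univ _, Subtype.ext h5⟩,
        Subtype.ext (inv_mul_cancel_left _ _)⟩
  · rw [if_neg hc, eq_comm, Nat.cast_eq_zero, Finset.card_eq_zero, Finset.filter_eq_empty_iff]
    intro a _ h
    refine hc (isConj_iff.2 ⟨(a : G), ?_⟩)
    have h' := congrArg Subtype.val h
    simp only [Subgroup.coe_mul, Subgroup.coe_inv] at h'
    rw [← h', ← mul_assoc (a : G), ← (commute_of_mem_centralizer a.2).eq]
    group

/-- The contribution of a section to the trace of a twist, where the twist is a conjugation. -/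
theorem re_section_nonneg [Fact p.Prime] (hM : IsPModular p M) {B : Set (IrrCharacter G)}
    (hB : IsPBlock M B) {y : G} (hy : IsPElem p y)
    (c : C⟨Subgroup.zpowers y⟩ →* C⟨Subgroup.zpowers y⟩) (hc : Function.Injective c) :
    0 ≤ (∑ s ∈ Finset.univ.filter (fun s : C⟨Subgroup.zpowers y⟩ => ¬ p ∣ orderOf s),
      ∑ χ ∈ Finset.univ.filter (· ∈ B),
        (χ : G → ℂ) (y * (c s : G)) * conj ((χ : G → ℂ) (y * (s : G)))).re := by
  set R := Finset.univ.filter (fun s : C⟨Subgroup.zpowers y⟩ => ¬ p ∣ orderOf s) with hR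
  set J := Finset.univ.filter (fun j : Ix M C⟨Subgroup.zpowers y⟩ => ∀ χ : IrrCharacter G, χ ∉ B → gdec M χ y j = 0)
  let BF := Finset.univ.filter (fun χ : IrrCharacter G => χ ∈ B)
  let Q : Ix M C⟨Subgroup.zpowers y⟩ → Ix M C⟨Subgroup.zpowers y⟩ → ℂ := fun j l => ∑ χ ∈ BF, gdec M χ y j * conj (gdec M χ y l)
  let W : Ix M C⟨Subgroup.zpowers y⟩ → Ix M C⟨Subgroup.zpowers y⟩ → ℂ := fun m l => ∑ s ∈ R, phi p M m s * conj (phi p M l s)
  -- orthogonality over all characters
  have horth : ∀ (m : Ix M C⟨Subgroup.zpowers y⟩) (s' : C⟨Subgroup.zpowers y⟩), s' ∈ R →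
      ∑ s ∈ R, (∑ χ : IrrCharacter G, (χ : G → ℂ) (y * (s' : G)) * conj ((χ : G → ℂ) (y * (s : G))))
        * phi p M m s = (Nat.card C⟨Subgroup.zpowers y⟩ : ℂ) * phi p M m s' := by
    intro m s' hs'
    have key : ∀ s ∈ R, (∑ χ : IrrCharacter G,
        (χ : G → ℂ) (y * (s' : G)) * conj ((χ : G → ℂ) (y * (s : G)))) * phi p M m s =
          ∑ a : C⟨Subgroup.zpowers y⟩, if a * s' * a⁻¹ = s then phi p M m s' else 0 := by
      intro s hs
      rw [card_conj_eq hM hy hs' hs, Finset.sum_mul]
      refine Finset.sum_congr rfl fun a _ => ?_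
      split_ifs with h
      · rw [one_mul, ← h, isClassFunction_phi hM m]
      · rw [zero_mul]
    rw [Finset.sum_congr rfl key, Finset.sum_comm]
    rw [Finset.sum_congr rfl fun a _ => by
      rw [Finset.sum_ite_eq, if_pos (Finset.mem_filter.2 ⟨Finset.mem_univ _, by
        rw [show a * s' * a⁻¹ = (MulAut.conj a).toMonoidHom s' from rfl,
          orderOf_injective _ (MulAut.conj a).injective]
        exact (Finset.mem_filter.1 hs').2⟩)]]
    rw [Finset.sum_const, Finset.card_univ, nsmul_eq_mul, Nat.card_eq_fintype_card]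
  have hQW : ∀ m, ∀ j ∈ J, ∑ l, Q j l * W m l = if j = m then (Nat.card C⟨Subgroup.zpowers y⟩ : ℂ) else 0 := by
    intro m j hj
    let a : Ix M C⟨Subgroup.zpowers y⟩ → ℂ := fun i => (∑ l, (∑ χ : IrrCharacter G, gdec M χ y i * conj (gdec M χ y l)) * W m l)
      - if i = m then (Nat.card C⟨Subgroup.zpowers y⟩ : ℂ) else 0
    have hz : a = 0 := eq_zero_of_sum_phi hM a fun s' hs' => by
      have h := horth m s' (Finset.mem_filter.2 ⟨Finset.mem_univ _, hs'⟩)
      simp only [a, sub_mul, Finset.sum_sub_distrib, ite_mul, zero_mul, Finset.sum_ite_eq',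
        Finset.mem_univ, if_true]
      rw [← h, sub_eq_zero]
      symm
      calc _ = ∑ s ∈ R, ∑ χ : IrrCharacter G, ∑ i, ∑ l,
            gdec M χ y i * phi p M i s' * (conj (gdec M χ y l) * conj (phi p M l s)) * phi p M m s := by
            refine Finset.sum_congr rfl fun s hs => ?_
            rw [Finset.sum_mul]
            refine Finset.sum_congr rfl fun χ _ => ?_
            rw [apply_eq_sum_gdec hM χ y hs', apply_eq_sum_gdec hM χ y (Finset.mem_filter.1 hs).2,
              map_sum, Finset.sum_mul, Finset.sum_mul]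
            refine Finset.sum_congr rfl fun i _ => ?_
            rw [Finset.mul_sum, Finset.sum_mul]
            exact Finset.sum_congr rfl fun l _ => by rw [map_mul]
        _ = _ := by
            simp only [W, Finset.mul_sum, Finset.sum_mul]
            rw [Finset.sum_comm]
            rw [Finset.sum_congr rfl fun χ _ => Finset.sum_comm]
            rw [Finset.sum_comm]
            refine Finset.sum_congr rfl fun i _ => ?_
            rw [Finset.sum_congr rfl fun χ _ => Finset.sum_comm]
            rw [Finset.sum_comm]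
            refine Finset.sum_congr rfl fun l _ => ?_
            rw [Finset.sum_comm]
            refine Finset.sum_congr rfl fun s _ => Finset.sum_congr rfl fun χ _ => ?_
            ring
    have h := congrFun hz j
    simp only [a, Pi.zero_apply, sub_eq_zero] at h
    rw [← h]
    refine Finset.sum_congr rfl fun l _ => ?_
    congr 1
    exact Finset.sum_subset (Finset.subset_univ _) fun χ _ hχ => by
      rw [(Finset.mem_filter.1 hj).2 χ (by simpa [BF] using hχ), zero_mul]
  choose r hr using fun j : Ix M C⟨Subgroup.zpowers y⟩ => exists_phi_comp hM c hc j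
  have hQ0 : ∀ j, j ∉ J → ∀ l, Q j l = 0 := by
    intro j hj l
    rcases gdec_dichotomy hM hB hy j with h | h
    · exact Finset.sum_eq_zero fun χ hχ => by rw [h χ (Finset.mem_filter.1 hχ).2, zero_mul]
    · exact absurd (Finset.mem_filter.2 ⟨Finset.mem_univ _, h⟩) hj
  have hterm : ∑ s ∈ R, ∑ χ ∈ BF,
      (χ : G → ℂ) (y * (c s : G)) * conj ((χ : G → ℂ) (y * (s : G))) =
        ((Nat.card C⟨Subgroup.zpowers y⟩ * ∑ j ∈ J, r j j : ℕ) : ℂ) := by
    calc _ = ∑ s ∈ R, ∑ χ ∈ BF, ∑ j, ∑ m, ∑ l,
          (r j m : ℂ) * ((gdec M χ y j * conj (gdec M χ y l)) * (phi p M m s * conj (phi p M l s))) := by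
          refine Finset.sum_congr rfl fun s hs => Finset.sum_congr rfl fun χ _ => ?_
          have hs' := (Finset.mem_filter.1 hs).2
          rw [apply_eq_sum_gdec hM χ y (s := c s) (by rw [orderOf_injective c hc]; exact hs'),
            apply_eq_sum_gdec hM χ y hs', map_sum, Finset.sum_mul]
          refine Finset.sum_congr rfl fun j _ => ?_
          rw [hr j s hs', Finset.mul_sum (a := gdec M χ y j), Finset.sum_mul]
          refine Finset.sum_congr rfl fun m _ => ?_
          rw [Finset.mul_sum]
          exact Finset.sum_congr rfl fun l _ => by rw [map_mul]; ring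
      _ = ∑ j, ∑ m, (r j m : ℂ) * ∑ l, Q j l * W m l := by
          simp only [Q, W, Finset.mul_sum, Finset.sum_mul]
          rw [Finset.sum_congr rfl fun s _ => Finset.sum_comm, Finset.sum_comm]
          refine Finset.sum_congr rfl fun j _ => ?_
          rw [Finset.sum_congr rfl fun s _ => Finset.sum_comm, Finset.sum_comm]
          refine Finset.sum_congr rfl fun m _ => ?_
          rw [Finset.sum_congr rfl fun s _ => Finset.sum_comm, Finset.sum_comm]
      _ = ∑ j ∈ J, ∑ m, (r j m : ℂ) * ∑ l, Q j l * W m l := by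
          refine (Finset.sum_subset (Finset.subset_univ _) fun j _ hj => ?_).symm
          simp [hQ0 j hj]
      _ = _ := by
          rw [Nat.cast_mul, Nat.cast_sum, Finset.mul_sum]
          refine Finset.sum_congr rfl fun j hj => ?_
          simp only [hQW _ j hj, mul_ite, mul_zero, Finset.sum_ite_eq, Finset.mem_univ, if_true]
          ring
  rw [hterm, Complex.natCast_re]
  exact Nat.cast_nonneg _

end Cfsg.Lib.Blocks.IBr
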