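import Mathlib
import Cfsg.Agent.Blocks.IBr.PRational

/-!
# Counting the characters of a block fixed by the twists of exponent congruent to one away from `p`
-/

set_option autoImplicit false
set_option linter.unusedSectionVars false
set_option linter.style.haveILetI false

namespace Cfsg.Lib.Blocks.IBr

open Cfsg.Lib.Chars Cfsg.Lib.Blocks.Star Cfsg.Lib.Blocks.TwoMember
open scoped ComplexConjugate Classical

universe u

local notation "C⟨" P "⟩" => Subgroup.centralizer (SetLike.coe P)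

variable {G : Type u} [Group G] [Fintype G] {M : Ideal AlgInt} {p : ℕ} [Fact p.Prime]

lemma mem_centralizer_of_commute {x g : G} (h : Commute g x) : g ∈ C⟨Subgroup.zpowers x⟩ := by
  rw [centralizer_zpowers, Subgroup.mem_centralizer_singleton_iff]
  exact h.eq

/-- A twist fixes at least as many characters of a block as its regular rank. -/
theorem blockRank_le_card_fixed (hM : IsPModular p M) {B : Set (IrrCharacter G)}
    (hB : IsPBlock M B) {k : ℕ} (hk : k.Coprime (Nat.card G))
    (hk1 : k ≡ 1 [MOD Nat.card G / p ^ (Nat.card G).factorization p]) :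
    blockRank p B ≤ Nat.card {χ : IrrCharacter G //
      χ ∈ B ∧ ∀ g : G, (χ : G → ℂ) (g ^ k) = (χ : G → ℂ) g} := by
  set BF := Finset.univ.filter (fun χ : IrrCharacter G => χ ∈ B) with hBF
  -- the number of fixed characters as a trace
  have htr : (Nat.card {χ : IrrCharacter G // χ ∈ B ∧ ∀ g : G, (χ : G → ℂ) (g ^ k) = (χ : G → ℂ) g} : ℂ) =
      ∑ χ ∈ BF, classInner (fun g => (χ : G → ℂ) (g ^ k)) (χ : G → ℂ) := by
    have h1 : ∀ χ ∈ BF, classInner (fun g => (χ : G → ℂ) (g ^ k)) (χ : G → ℂ) =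
        if ∀ g : G, (χ : G → ℂ) (g ^ k) = (χ : G → ℂ) g then 1 else 0 := by
      intro χ _
      obtain ⟨ψ, hψ⟩ := exists_powChar hk χ
      rw [show (fun g => (χ : G → ℂ) (g ^ k)) = (ψ : G → ℂ) from funext fun g => (hψ g).symm]
      by_cases h : ψ = χ
      · subst h
        rw [classInner_irr_self, if_pos fun g => (hψ g).symm]
      · rw [classInner_irr_ne h, if_neg fun h' => h (Subtype.ext (funext fun g => (hψ g).trans (h' g)))]
    rw [Finset.sum_congr rfl h1, Finset.sum_boole, Nat.card_eq_fintype_card,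
      Fintype.card_subtype, hBF, Finset.filter_filter]
  let F : G → ℂ := fun g => ∑ χ ∈ BF, (χ : G → ℂ) (g ^ k) * conj ((χ : G → ℂ) g)
  have hF : ∑ χ ∈ BF, classInner (fun g => (χ : G → ℂ) (g ^ k)) (χ : G → ℂ) =
      (Nat.card G : ℂ)⁻¹ * ∑ g, F g := by
    simp only [classInner_def, F, ← Finset.mul_sum]
    rw [Finset.sum_comm]
  have hreg : ∀ g : G, ¬ p ∣ orderOf g → g ^ k = g := fun g hg => by
    refine pow_eq_self_of_modEq_one ?_ hk1
    exact ((Nat.Coprime.pow_right _ ((hM.1.coprime_iff_not_dvd.2 hg).symm)).dvd_of_dvd_mul_left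
      ((Nat.ordProj_mul_ordCompl_eq_self (Nat.card G) p).symm ▸ orderOf_dvd_natCard g))
  -- the regular elements
  have hone : ∑ g ∈ Finset.univ.filter (fun g : G => ¬ p ∣ orderOf g), F g =
      (Nat.card G : ℂ) * (blockRank p B : ℂ) := by
    rw [← sum_classInner_eq_blockRank hM hB, Finset.mul_sum, Finset.sum_comm]
    refine Finset.sum_congr (by simp [hBF]) fun χ _ => ?_
    rw [classInner_def, mul_inv_cancel_left₀ (Nat.cast_ne_zero.2 Nat.card_pos.ne'),
      Finset.sum_filter]
    refine Finset.sum_congr rfl fun g _ => ?_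
    by_cases hg : p ∣ orderOf g
    · simp [pRegularPart_apply, hg]
    · simp [pRegularPart_apply, hg, hreg g hg]
  -- the other sections
  have hsec : ∀ x : G, IsPElem p x →
      0 ≤ (∑ w ∈ Finset.univ.filter (fun w : C⟨Subgroup.zpowers x⟩ => ¬ p ∣ orderOf w),
        F (x * (w : G))).re := by
    intro x hx
    have hxw : ∀ w : C⟨Subgroup.zpowers x⟩, ¬ p ∣ orderOf w →
        (x * (w : G)) ^ k = x ^ k * (w : G) := fun w hw => by
      rw [(commute_of_mem_centralizer w.2).mul_pow, hreg (w : G) (by rwa [Subgroup.orderOf_coe])]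
    by_cases hc : IsConj x (x ^ k)
    · obtain ⟨h, hh⟩ := isConj_iff.1 hc
      have hmem : ∀ w : C⟨Subgroup.zpowers x⟩, h⁻¹ * (w : G) * h ∈ C⟨Subgroup.zpowers x⟩ := fun w => by
        have hw : (w : G) * x ^ k = x ^ k * (w : G) :=
          ((commute_of_mem_centralizer w.2).pow_left k).eq.symm
        rw [← hh] at hw
        refine mem_centralizer_of_commute ?_
        show _ * x = x * _
        calc h⁻¹ * (w : G) * h * x = h⁻¹ * ((w : G) * (h * x * h⁻¹)) * h := by group
          _ = x * (h⁻¹ * (w : G) * h) := by rw [hw]; group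
      let c : C⟨Subgroup.zpowers x⟩ →* C⟨Subgroup.zpowers x⟩ :=
        MonoidHom.mk' (fun w => ⟨h⁻¹ * (w : G) * h, hmem w⟩) fun a b => Subtype.ext (by simp [mul_assoc])
      have hcinj : Function.Injective c := fun a b hab => Subtype.ext (by
        simpa [c] using congrArg Subtype.val hab)
      convert! re_section_nonneg hM hB hx c hcinj using 3 with w hw
      refine Finset.sum_congr rfl fun χ _ => ?_
      rw [hxw w (Finset.mem_filter.1 hw).2, ← isClassFunction_irr χ (x * (c w : G)) h]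
      congr 1
      show _ = (χ : G → ℂ) (h * (x * (h⁻¹ * (w : G) * h)) * h⁻¹)
      rw [← hh]
      group
    · rw [Finset.sum_eq_zero fun w hw => ?_, Complex.zero_re]
      have hw' : ¬ p ∣ orderOf (w : G) := by
        rw [Subgroup.orderOf_coe]; exact (Finset.mem_filter.1 hw).2
      have hwc := commute_of_mem_centralizer w.2
      simp only [F]
      rw [hxw w (Finset.mem_filter.1 hw).2]
      refine block_orthogonality_conj hM hB (isPPart_mul (hwc.pow_left k) ?_ hw')
        (isPPart_mul hwc hx hw') fun h => hc h.symm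
      obtain ⟨i, hi⟩ := hx
      exact ⟨i, by rw [(hk.coprime_dvd_right (orderOf_dvd_natCard x)).symm.orderOf_pow, hi]⟩
  -- conclusion
  have htot : (Nat.card G : ℝ) * (blockRank p B : ℝ) ≤ (∑ g, F g).re := by
    have h1 : IsPElem p (1 : G) := ⟨0, by simp⟩
    rw [sum_sections_complex (p := p) F, ← Finset.add_sum_erase _ _
      (Finset.mem_filter.2 ⟨Finset.mem_univ _, h1⟩), Complex.add_re]
    have hs : ∑ w ∈ Finset.univ.filter (fun w : C⟨Subgroup.zpowers (1 : G)⟩ => ¬ p ∣ orderOf w),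
        F (1 * (w : G)) = ∑ g ∈ Finset.univ.filter (fun g : G => ¬ p ∣ orderOf g), F g := by
      refine Finset.sum_bij (fun w _ => (w : G)) ?_ (fun a _ b _ h => Subtype.ext h) ?_ ?_
      · intro w hw
        simpa [Subgroup.orderOf_coe] using hw
      · intro g hg
        have hgC : g ∈ C⟨Subgroup.zpowers (1 : G)⟩ := by
          rw [centralizer_zpowers, Subgroup.mem_centralizer_singleton_iff, mul_one, one_mul]
        exact ⟨⟨g, hgC⟩, Finset.mem_filter.2 ⟨Finset.mem_univ _, by
          rw [← Subgroup.orderOf_coe]; exact (Finset.mem_filter.1 hg).2⟩, rfl⟩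
      · intro w _; rw [one_mul]
    rw [hs, hone, Complex.mul_re, Complex.natCast_re, Complex.natCast_re, Complex.natCast_im, zero_mul,
      sub_zero, Complex.re_sum]
    exact le_add_of_nonneg_right (Finset.sum_nonneg fun x hx =>
      hsec x (Finset.mem_filter.1 (Finset.mem_of_mem_erase hx)).2)
  have hcard : (∑ g, F g) = (Nat.card G : ℂ) * (Nat.card {χ : IrrCharacter G //
      χ ∈ B ∧ ∀ g : G, (χ : G → ℂ) (g ^ k) = (χ : G → ℂ) g} : ℂ) := by
    rw [htr, hF, mul_inv_cancel_left₀ (Nat.cast_ne_zero.2 Nat.card_pos.ne')]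
  rw [hcard, Complex.mul_re, Complex.natCast_re, Complex.natCast_re, Complex.natCast_im, zero_mul,
    sub_zero, ← Nat.cast_mul, ← Nat.cast_mul, Nat.cast_le] at htot
  exact Nat.le_of_mul_le_mul_left htot Nat.card_pos

/-- For odd `p` a single twist generates all those of exponent congruent to one away from `p`. -/
theorem exists_generating_twist (p : ℕ) [Fact p.Prime] (hodd : p ≠ 2) {n : ℕ} (hn : n ≠ 0) :
    ∃ k₀ : ℕ, k₀.Coprime n ∧ k₀ ≡ 1 [MOD n / p ^ n.factorization p] ∧
      ∀ k : ℕ, k.Coprime n → k ≡ 1 [MOD n / p ^ n.factorization p] →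
        ∃ e : ℕ, k ≡ k₀ ^ e [MOD n] := by
  have hp : p.Prime := Fact.out
  set a := n.factorization p
  have hcop : Nat.Coprime (p ^ a) (n / p ^ a) := Nat.Coprime.pow_left _ (Nat.coprime_ordCompl hp hn)
  have hmn : p ^ a * (n / p ^ a) = n := Nat.ordProj_mul_ordCompl_eq_self _ _
  haveI : NeZero (p ^ a) := ⟨pow_ne_zero _ hp.ne_zero⟩
  haveI := ZMod.isCyclic_units_of_prime_pow p hp hodd a
  obtain ⟨u, hu⟩ := IsCyclic.exists_monoid_generator (α := (ZMod (p ^ a))ˣ)
  obtain ⟨k₀, h0, h1⟩ := Nat.chineseRemainder hcop (u : ZMod (p ^ a)).val 1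
  have hk0 : (k₀ : ZMod (p ^ a)) = u := by
    rw [(ZMod.natCast_eq_natCast_iff _ _ _).2 h0, ZMod.natCast_zmod_val]
  refine ⟨k₀, ?_, h1, fun k hk hk1 => ?_⟩
  · rw [← hmn]
    refine Nat.Coprime.mul_right ((ZMod.isUnit_iff_coprime k₀ (p ^ a)).1 (hk0 ▸ u.isUnit)) ?_
    exact (Nat.ModEq.gcd_eq h1).trans (Nat.gcd_one_left _)
  · obtain ⟨e, he⟩ := Submonoid.mem_powers_iff _ _ |>.1 (hu (ZMod.unitOfCoprime k
      (hk.coprime_dvd_right ⟨_, hmn.symm⟩)))
    refine ⟨e, ?_⟩
    rw [← hmn]
    refine (Nat.modEq_and_modEq_iff_modEq_mul hcop).1 ⟨(ZMod.natCast_eq_natCast_iff _ _ _).1 ?_, ?_⟩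
    · rw [Nat.cast_pow, hk0, ← Units.val_pow_eq_pow_val, he, ZMod.coe_unitOfCoprime]
    · exact hk1.trans (by simpa using (h1.pow e).symm)

end Cfsg.Lib.Blocks.IBr
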